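import Groth.Agent.NormX.Basic
import Groth.Prelude.Def_Fitting
import Groth.Agent.AmpleX.RelAffine
import Groth.Agent.InvUfdLib.Semilocal
import Groth.Agent.H23.CocycleMod

/-!
# Norms of invertible modules along finite morphisms
-/

universe u

open CategoryTheory CategoryTheory.Limits AlgebraicGeometry TopologicalSpace
open Groth.Agent.H23.PicMul

set_option backward.isDefEq.respectTransparency false
set_option backward.isDefEq.respectTransparency.types false

namespace Groth.Agent.NormX

open Groth.Agent Groth.Agent.AmpleX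

variable {X Y : Scheme.{u}}

/-- A finite morphism with a norm of some degree is surjective. -/
theorem surjective_of_normOfDegree {π : X ⟶ Y} [IsFinite π] {d : ℕ} (N : Nrm.NormOfDegree π d) (y : Y) :
    ∃ x : X, π x = y := by
  by_contra hc
  let U : Y.Opens := ⟨(Set.range π)ᶜ, π.isClosedMap.isClosed_range.isOpen_compl⟩
  have hyU : y ∈ U := hc
  have hU : π ⁻¹ᵁ U = ⊥ := Opens.ext (Set.eq_empty_of_forall_notMem fun x hx => hx ⟨x, rfl⟩)
  haveI : Subsingleton Γ(X, π ⁻¹ᵁ U) := by
    rw [hU]
    exact CommRingCat.subsingleton_of_isTerminal X.sheaf.isTerminalOfEmpty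
  have h1 : N.norm U (π.app U 0) = 1 := by
    rw [Subsingleton.elim (π.app U 0) (1 : Γ(X, π ⁻¹ᵁ U)), map_one]
  rw [N.norm_app, zero_pow (Nat.one_le_iff_ne_zero.1 N.one_le)] at h1
  have h2 := congrArg (Y.presheaf.germ U y hyU) h1
  rw [map_zero, map_one] at h2
  exact zero_ne_one h2

/-- A norm of some degree is a weak norm. -/
noncomputable def WNorm.ofNorm {π : X ⟶ Y} [IsFinite π] {d : ℕ} (N : Nrm.NormOfDegree π d) : WNorm π where
  norm := N.norm
  norm_res h s := N.norm_res (homOfLE h) s
  norm_mem U s y hy h := by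
    obtain ⟨x, rfl⟩ := surjective_of_normOfDegree N y
    rw [Scheme.mem_basicOpen Y _ (π x) hy, ← IsLocalRing.notMem_maximalIdeal, not_not]
    refine N.norm_mem U s x hy ?_
    have := h x rfl
    rw [Scheme.mem_basicOpen X s x hy, ← IsLocalRing.notMem_maximalIdeal, not_not] at this
    exact this

/-- An invertible module has a frame over the preimage of a neighbourhood of each point. -/
theorem exists_frame_preimage {L : X.Modules} (hL : PicF.IsInvertible L) (π : X ⟶ Y) [IsFinite π] (y : Y) :
    ∃ (V : Y.Opens) (_ : y ∈ V) (e : Γ(L, π ⁻¹ᵁ V)), InvX.IsFrame e := by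
  obtain ⟨_, ⟨V₀, hV₀, rfl⟩, hyV₀, -⟩ :=
    Y.isBasis_affineOpens.exists_subset_of_mem_open (Set.mem_univ y) isOpen_univ
  have hd : ∀ x ∈ π ⁻¹' {y}, ∀ x' ∈ π ⁻¹' {y}, x ⤳ x' → x = x' := by
    intro x hx x' hx' h
    have := (π.isDiscrete_preimage_singleton y).1
    have h' : (⟨x, hx⟩ : π ⁻¹' {y}) ⤳ ⟨x', hx'⟩ := (subtype_specializes_iff _ _).2 h
    exact congrArg Subtype.val h'.eq
  obtain ⟨O, s, hFO, hs⟩ := InvUfdLib.exists_frame_finset hL (hV₀.preimage π) (π ⁻¹' {y})
    (π.finite_preimage_singleton y) (fun x (hx : π x = y) => show π x ∈ V₀ from hx ▸ hyV₀) hd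
  let V : Y.Opens := ⟨(π '' (O : Set X)ᶜ)ᶜ, (π.isClosedMap _ O.isOpen.isClosed_compl).isOpen_compl⟩
  have hV : π ⁻¹ᵁ V ≤ O := fun x hx => by
    by_contra hc
    exact hx ⟨x, hc, rfl⟩
  exact ⟨V, fun ⟨x, hx, e⟩ => hx (hFO e), _, hs.res hV⟩

/-- The norm of an invertible module exists. -/
theorem exists_datum {π : X ⟶ Y} [IsFinite π] (N : WNorm π) {L : X.Modules} (hL : PicF.IsInvertible L) :
    ∃ M : Y.Modules, Nonempty (Datum N ⊤ L M) := by
  choose V hyV e he using fun y : Y => exists_frame_preimage hL π y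
  have hc := fun i j => (he j).exists_coord (π.preimage_mono (inf_le_right : V i ⊓ V j ≤ V j))
    (AModX.res L (π.preimage_mono (inf_le_left : V i ⊓ V j ≤ V i)) (e i))
  choose c hc using hc
  -- coordinates on smaller opens
  have hcW : ∀ (i j : Y) (W : Y.Opens) (hi : W ≤ V i) (hj : W ≤ V j),
      AModX.res L (π.preimage_mono hi) (e i) =
        AModX.resR (π.preimage_mono (le_inf hi hj)) (c i j) • AModX.res L (π.preimage_mono hj) (e j) := by
    intro i j W hi hj
    have h := congrArg (AModX.res L (π.preimage_mono (le_inf hi hj))) (hc i j)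
    rwa [AModX.res_res, AModX.res_smul, AModX.res_res] at h
  have hmul : ∀ (i j k : Y) (W : Y.Opens) (hi : W ≤ V i) (hj : W ≤ V j) (hk : W ≤ V k),
      AModX.resR (π.preimage_mono (le_inf hi hk)) (c i k) =
        AModX.resR (π.preimage_mono (le_inf hj hk)) (c j k) *
          AModX.resR (π.preimage_mono (le_inf hi hj)) (c i j) := fun i j k W hi hj hk => by
    refine (he k).coord_unique (π.preimage_mono hk) ?_
    rw [← hcW i k W hi hk, hcW i j W hi hj, hcW j k W hj hk, ← mul_smul, mul_comm]
  have hone : ∀ (i : Y) (W : Y.Opens) (hi : W ≤ V i),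
      AModX.resR (π.preimage_mono (le_inf hi hi)) (c i i) = 1 := fun i W hi => by
    refine (he i).coord_unique (π.preimage_mono hi) ?_
    rw [← hcW i i W hi hi, one_smul]
  have hnm : ∀ (i j k : Y) (W : Y.Opens) (hi : W ≤ V i) (hj : W ≤ V j) (hk : W ≤ V k),
      AModX.resR (le_inf hi hk) (N.norm (V i ⊓ V k) (c i k)) =
        AModX.resR (le_inf hj hk) (N.norm (V j ⊓ V k) (c j k)) *
          AModX.resR (le_inf hi hj) (N.norm (V i ⊓ V j) (c i j)) := fun i j k W hi hj hk => by
    rw [N.norm_res, N.norm_res, N.norm_res, ← map_mul, hmul i j k W hi hj hk]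
  have hu : ∀ i j, IsUnit (N.norm (V i ⊓ V j) (c i j)) := fun i j => by
    refine IsUnit.map (N.norm (V i ⊓ V j)) ?_
    have h := hmul i j i (V i ⊓ V j) inf_le_left inf_le_right inf_le_left
    rw [hone i (V i ⊓ V j) inf_le_left] at h
    have h2 := IsUnit.of_mul_eq_one_right _ h.symm
    rwa [AModX.resR_self] at h2
  let t : H23.CocycleMod.Cocycle V :=
    { g := fun i j => (hu i j).unit
      trans := fun i j k W hi hj hk => hnm i j k W hi hj hk }
  refine ⟨H23.CocycleMod.mod t, ⟨
    { ι := Y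
      U := V
      cov := fun y _ => ⟨y, hyV y⟩
      e := e
      he := he
      f := fun i => H23.CocycleMod.frame t i
      hf := fun i => H23.CocycleMod.isFrame_frame t i
      compat := fun i j W hi hj d hd => ?_ }⟩⟩
  have hd' : d = AModX.resR (π.preimage_mono (le_inf hj hi)) (c j i) := by
    refine (he i).coord_unique (π.preimage_mono hi) ?_
    rw [← hd, hcW j i W hj hi]
  have h := congrArg (AModX.res (H23.CocycleMod.mod t) (le_inf hj hi)) (H23.CocycleMod.res_frame t j i)
  rw [AModX.res_res, AModX.res_smul, AModX.res_res] at h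
  rw [h, hd', ← N.norm_res]
  rfl

/-- A finite morphism with a norm sends an ample module to an ample module. -/
theorem isAmple_of_datum {π : X ⟶ Y} [IsFinite π] [Surjective π] {N : WNorm π} {L : X.Modules} {M : Y.Modules}
    (D : Datum N ⊤ L M) (hL : CohB1.IsAmple L) : CohB1.IsAmple M := by
  obtain ⟨-, hc, -⟩ := isAmple_iff.1 hL
  haveI : CompactSpace Y := ⟨by rw [← π.surjective.range_eq]; exact isCompact_range π.continuous⟩
  let t : Y ⟶ Spec (CommRingCat.of (ULift.{u} ℤ)) := specULiftZIsTerminal.from Y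
  haveI : QuasiCompact t := (quasiCompact_iff_compactSpace t).2 inferInstance
  exact (isRelAmple_iff_isAmple t M).1 (isRelAmple_of_datum t π π.isClosedMap π.finite_preimage_singleton D
    ((isRelAmple_iff_isAmple (π ≫ t) L).2 hL))

end Groth.Agent.NormX
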