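import Groth.Agent.NormX.Free
import Groth.Agent.NormX.Cases
import Groth.Agent.AmpleX.Comp

/-!
# Ampleness along finite locally free surjective morphisms
-/

universe u

open CategoryTheory AlgebraicGeometry TopologicalSpace
open Groth.Agent.H23.PicMul

set_option backward.isDefEq.respectTransparency false
set_option backward.isDefEq.respectTransparency.types false

namespace Groth.Agent.NormX

open Groth.Agent Groth.Agent.AmpleX

variable {X X' Y : Scheme.{u}}

theorem mor2_isQuasiAffine_of_isFinite (g : X' ⟶ X) [IsFinite g] : Mor2.IsQuasiAffine g :=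
  ⟨inferInstance, fun V hV => by
    haveI : IsAffine (g ⁻¹ᵁ V : Scheme.{u}) := hV.preimage g
    infer_instance⟩

theorem relAmple_iff_of_free (f : X ⟶ Y) [QuasiCompact f] (g : X' ⟶ X) [IsFinite g] [Surjective g]
    (hfree : FlatMod.IsFinLocFree ((Coh.push g).obj (Coh.structureModule X'))) (L : X.Modules)
    (hL : PicF.IsInvertible L) :
    RelAmple.IsRelAmple f L ↔ RelAmple.IsRelAmple (g ≫ f) ((Scheme.Modules.pullback g).obj L) := by
  refine ⟨fun h => isRelAmple_pullback_quasiAffine f g (mor2_isQuasiAffine_of_isFinite g) h, fun h => ?_⟩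
  refine isRelAmple_of_data f g g.isClosedMap g.finite_preimage_singleton hL (fun V hV => ?_) h
  have hcov := goodFree_cov g hfree
  obtain ⟨D, hD, hdvd⟩ := exists_degree g (B := f ⁻¹ᵁ V) (fun y _ => hcov y) (f.isCompact_preimage hV.isCompact)
  refine ⟨freeNorm g (expo D) (expo_pos D) hcov, _, D, hD, cl_tensorPow L D,
    ⟨Datum.ofPullback hL D fun U hU a => freeNorm_app g _ _ hcov D U (fun W hW hWU hne => ?_) a⟩⟩
  exact mul_expo hD (hdvd W hW (hWU.trans hU) hne)

theorem exists_relAmple_iff_of_free (f : X ⟶ Y) [QuasiCompact f] (g : X' ⟶ X) [IsFinite g] [Surjective g]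
    (hfree : FlatMod.IsFinLocFree ((Coh.push g).obj (Coh.structureModule X'))) :
    (∃ L : X.Modules, PicF.IsInvertible L ∧ RelAmple.IsRelAmple f L) ↔
      ∃ L' : X'.Modules, PicF.IsInvertible L' ∧ RelAmple.IsRelAmple (g ≫ f) L' := by
  constructor
  · rintro ⟨L, hL, h⟩
    exact ⟨_, PicClLib.isInvertible_pullback g hL,
      isRelAmple_pullback_quasiAffine f g (mor2_isQuasiAffine_of_isFinite g) h⟩
  · rintro ⟨L', hL', h⟩
    obtain ⟨M, ⟨D⟩⟩ := exists_datum (freeNorm g (fun _ => 1) (fun _ => Nat.one_pos) (goodFree_cov g hfree)) hL'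
    exact ⟨M, D.isInvertible rfl, isRelAmple_of_datum f g g.isClosedMap g.finite_preimage_singleton D h⟩

/-- The norm of a finite locally free morphism of constant degree. -/
theorem hasNorm_of_isFinLocFreeOfDeg {X Y : Scheme.{u}} (π : X ⟶ Y) (d : ℕ) (hd : 1 ≤ d)
    (hπ : Mor2.IsFinLocFreeOfDeg d π) : Nrm.HasNorm π d := by
  haveI := hπ.1.1
  haveI := hπ.1.2.1
  haveI := hπ.1.2.2
  haveI : Surjective π := (Scheme.Hom.one_le_finrank_iff_surjective π).1 fun y => by
    have := hπ.2 y
    show 1 ≤ π.finrank y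
    omega
  have hpush := H23.CoverPush.isFinLocFreeOfRank_push_of_isCover π (d := d) hπ
  have hcov := goodFree_cov π (fun y => by
    obtain ⟨U, hU, e⟩ := hpush y
    exact ⟨U, d, hU, e⟩)
  have hrk : ∀ W : Y.Opens, GoodFree π W → (∃ y, y ∈ W) → rk π W = d := fun W hW ⟨y, hy⟩ => by
    obtain ⟨U, hU, ⟨e⟩⟩ := hpush y
    obtain ⟨s, hs⟩ := H23.Frame.exists_frame e
    haveI := nontrivial_of_mem (W := W ⊓ U) ⟨hy, hU⟩
    rw [← rk_res π hW (inf_le_left : W ⊓ U ≤ W) ⟨hy, hU⟩]
    exact rk_eq π (s := s) (fun W hW => hs W hW) inf_le_right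
  refine ⟨{ one_le := hd
            norm := (freeNorm π (fun _ => 1) (fun _ => Nat.one_pos) hcov).norm
            norm_res := fun i s => (freeNorm π _ _ hcov).norm_res i.le s
            norm_app := fun U g => freeNorm_app π _ _ hcov d U
              (fun W hW _ hne => by rw [mul_one]; exact hrk W hW hne) g
            norm_mem := ?_ }⟩
  intro U s x hx hmem
  let N := freeNorm π (fun _ => 1) (fun _ => Nat.one_pos) hcov
  let y := π x
  rw [← not_not (a := _ ∈ IsLocalRing.maximalIdeal _), IsLocalRing.notMem_maximalIdeal,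
    ← Scheme.mem_basicOpen Y _ y hx]
  intro hy
  obtain ⟨W₀, hyW₀, hg₀⟩ := hcov y
  let W := U ⊓ W₀
  let V := Y.basicOpen ((freeNorm π (fun _ => 1) (fun _ => Nat.one_pos) hcov).norm U s) ⊓ W
  have hVU : V ≤ U := inf_le_right.trans inf_le_left
  have hg : GoodFree π V := (freeLoc π (fun _ => 1) (fun _ => Nat.one_pos) hcov).good_mono
    (inf_le_right.trans inf_le_right) hg₀
  have hu : IsUnit (AModX.resR hVU (N.norm U s)) := AModX.isUnit_resR _ _ inf_le_left
  rw [show AModX.resR hVU (N.norm U s) = (freeLoc π (fun _ => 1) (fun _ => Nat.one_pos) hcov).loc V hg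
    (AModX.resR (π.preimage_mono hVU) s) from LocNorm.toWNorm_spec _ U s hVU hg] at hu
  have hs := isUnit_of_isUnit_norm π hg (AModX.resR (π.preimage_mono hVU) s) (by
    letI := H23.CoverPush.alg π V
    change IsUnit (Algebra.norm Γ(Y, V) _ ^ 1) at hu
    rwa [pow_one] at hu)
  have h1 := X.basicOpen_of_isUnit hs
  rw [show AModX.resR (π.preimage_mono hVU) s = X.presheaf.map (homOfLE (π.preimage_mono hVU)).op s from rfl,
    Scheme.basicOpen_res] at h1
  have h2 : x ∈ π ⁻¹ᵁ V ⊓ X.basicOpen s := by rw [h1]; exact ⟨hy, hx, hyW₀⟩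
  exact IsLocalRing.notMem_maximalIdeal.2 ((Scheme.mem_basicOpen X s x hx).1 h2.2) hmem

end Groth.Agent.NormX
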