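import Groth.Agent.NormX.Generic
import Groth.Agent.NormX.FreeAmple
import Groth.Agent.H23.FinCondSch
import Groth.Prelude.Def_Pi1

/-!
# Ampleness along finite surjective morphisms to reduced schemes, free or normal at each point
-/

universe u

open CategoryTheory AlgebraicGeometry TopologicalSpace
open Groth.Agent.H23.PicMul

set_option backward.isDefEq.respectTransparency false
set_option backward.isDefEq.respectTransparency.types false

namespace Groth.Agent.NormX

open Groth.Agent Groth.Agent.AmpleX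

variable {X X' Y : Scheme.{u}}

theorem goodFree_of_integral (π : X ⟶ Y) [IsFinite π] {W : Y.Opens} (hW : IsIntegral (W : Scheme.{u}))
    {U : Y.Opens} (hne : ∃ y, y ∈ W ⊓ U) :
    ∃ V ≤ U, (∃ y, y ∈ V) ∧ GoodFree π V := by
  obtain ⟨y₀, hy₀⟩ := hne
  obtain ⟨_, ⟨W', hW', rfl⟩, hyW', hle⟩ :=
    Y.isBasis_affineOpens.exists_subset_of_mem_open (show y₀ ∈ W ⊓ U from hy₀) (W ⊓ U).isOpen
  have hW'a : IsAffineOpen W' := hW'
  have hW'W : W' ≤ W := fun y hy => (hle hy).1
  haveI := isDomain_of_le hW hW'W hyW'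
  let M := (Scheme.Modules.pushforward π).obj (Coh.structureModule X)
  have hq : Coh.IsQCoh M := QCoh.isQCoh_pushforward π QCoh.isQCoh_structureModule
  letI := H23.CoverPush.alg π W'
  haveI : Module.Finite Γ(Y, W') Γ(X, π ⁻¹ᵁ W') := π.finite_app W' hW'a
  have e0 : Γ(M, W') ≃ₗ[Γ(Y, W')] Γ(X, π ⁻¹ᵁ W') :=
    { toFun := fun x => x, invFun := fun x => x, left_inv := fun _ => rfl, right_inv := fun _ => rfl,
      map_add' := fun _ _ => rfl, map_smul' := fun _ _ => rfl }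
  haveI : Module.Finite Γ(Y, W') Γ(M, W') := Module.Finite.equiv e0.symm
  obtain ⟨f, hf, hfree⟩ := exists_free_away (A := Γ(Y, W')) Γ(M, W')
  obtain ⟨n, ⟨e⟩⟩ := QCoh.exists_free_nhd hq hW'a f hfree
  obtain ⟨s, hs⟩ := H23.Frame.exists_frame e
  refine ⟨Y.basicOpen f, fun y hy => (hle (Y.basicOpen_le f hy)).2, ?_,
    n, Y.basicOpen f, s, le_rfl, fun V hV => hs V hV⟩
  by_contra hc
  apply hf
  haveI : _root_.IsReduced Γ(Y, W') := inferInstance
  have hnil : IsNilpotent f := by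
    rw [← PrimeSpectrum.basicOpen_eq_bot_iff, ← hW'a.fromSpec_preimage_basicOpen f]
    exact Opens.ext (Set.eq_empty_of_forall_notMem fun p hp => hc ⟨_, hp⟩)
  exact hnil.eq_zero

theorem hdense_of_noetherian (π : X ⟶ Y) [IsFinite π] [IsLocallyNoetherian Y] [IsReduced Y] :
    ∀ U : Y.Opens, (∃ y, y ∈ U) → ∃ V ≤ U, (∃ y, y ∈ V) ∧ GoodFree π V := by
  intro U ⟨u, hu⟩
  let η := (isIrreducible_irreducibleComponent (x := u)).genericPoint
  have hgen : IsGenericPoint η (irreducibleComponent u) :=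
    IsIrreducible.isGenericPoint_genericPoint _ (isClosed_irreducibleComponent (x := u))
  haveI : IsDomain (Y.presheaf.stalk η) := by
    letI := (isField_stalk_of_closure_mem_irreducibleComponents Y η
      (by rw [hgen.def]; exact irreducibleComponent_mem_irreducibleComponents u)).toField
    infer_instance
  have hηU : η ∈ U := (hgen.specializes mem_irreducibleComponent).mem_open U.isOpen hu
  obtain ⟨W, hηW, hW⟩ := H23.FinCondSch.exists_integral_nhd η
  exact goodFree_of_integral π hW ⟨η, hηW, hηU⟩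

theorem hdense_of_integral (π : X ⟶ Y) [IsFinite π] [IsIntegral Y] :
    ∀ U : Y.Opens, (∃ y, y ∈ U) → ∃ V ≤ U, (∃ y, y ∈ V) ∧ GoodFree π V := fun U ⟨u, hu⟩ => by
  haveI : Nonempty (⊤ : Y.Opens).toScheme := ⟨⟨u, trivial⟩⟩
  exact goodFree_of_integral π (W := ⊤) (isIntegral_of_isOpenImmersion (⊤ : Y.Opens).ι) ⟨u, trivial, hu⟩

theorem normalAt_of_integral [IsIntegral Y] (y : Y) (h : IsIntegrallyClosed (Y.presheaf.stalk y)) :
    NormalAt Y y := by
  haveI : Nonempty (⊤ : Y.Opens).toScheme := ⟨⟨y, trivial⟩⟩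
  exact ⟨h, ⊤, trivial, isIntegral_of_isOpenImmersion (⊤ : Y.Opens).ι⟩

/-- Locally free on an open subscheme gives bases. -/
theorem goodFree_of_restrict (π : X ⟶ Y) {T : Y.Opens}
    (h : FlatMod.IsFinLocFree (((Coh.push π).obj (Coh.structureModule X)).restrict T.ι)) {y : Y} (hy : y ∈ T) :
    ∃ U, y ∈ U ∧ GoodFree π U := by
  let M := (Coh.push π).obj (Coh.structureModule X)
  obtain ⟨U, n, hyU, ⟨e⟩⟩ := h ⟨y, hy⟩
  obtain ⟨s, hs⟩ := H23.Frame.exists_frame e
  refine ⟨T.ι ''ᵁ U, ⟨_, hyU, rfl⟩, n, T.ι ''ᵁ U, s, le_rfl, fun W hW => ?_⟩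
  obtain ⟨W', rfl⟩ : ∃ W', T.ι ''ᵁ W' = W := ⟨T.ι ⁻¹ᵁ W, by
    rw [Scheme.Hom.image_preimage_eq_opensRange_inf]
    exact inf_eq_right.2 (hW.trans (T.ι.image_le_opensRange U))⟩
  have hle : W' ≤ U := (T.ι.image_le_image_iff W' U).1 hW
  have hb := hs W' hle
  have key : H23.Frame.comb (M.restrict T.ι) s W' hle = fun c : Fin n → Γ(Y, T.ι ''ᵁ W') =>
      ∑ i, π.app (T.ι ''ᵁ W') (c i) * AModX.resR (π.preimage_mono hW) (s i) :=
    funext fun c => Finset.sum_congr rfl fun i _ => H23.Frame.restrict_smul T W' (c i) _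
  rw [key] at hb
  exact hb

theorem exists_degree_noetherian (π : X ⟶ Y) [Surjective π] [NoetherianSpace Y] : ∃ D : ℕ, 0 < D ∧
    ∀ W : Y.Opens, GoodFree π W → (∃ y, y ∈ W) → rk π W ∣ D := by
  let B : Y.Opens := sSup {U | GoodFree π U}
  obtain ⟨D, hD, h⟩ := exists_degree π (B := B) (fun y hy => by
    obtain ⟨U, hU, hyU⟩ := Opens.mem_sSup.1 hy
    exact ⟨U, hyU, hU⟩) (NoetherianSpace.isCompact _)
  exact ⟨D, hD, fun W hW hne => h W hW (le_sSup hW) hne⟩

theorem relAmple_iff_of_normal_or_free [IsNoetherian X] [IsReduced X] (f : X ⟶ Y) [QuasiCompact f] (g : X' ⟶ X)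
    [IsFinite g] [Surjective g]
    (hW : ∀ x : X, (IsDomain (X.presheaf.stalk x) ∧ IsIntegrallyClosed (X.presheaf.stalk x)) ∨
      ∃ T : X.Opens, x ∈ T ∧
        FlatMod.IsFinLocFree (((Coh.push g).obj (Coh.structureModule X')).restrict T.ι))
    (L : X.Modules) (hL : PicF.IsInvertible L) :
    RelAmple.IsRelAmple f L ↔ RelAmple.IsRelAmple (g ≫ f) ((Scheme.Modules.pullback g).obj L) := by
  refine ⟨fun h => isRelAmple_pullback_quasiAffine f g (mor2_isQuasiAffine_of_isFinite g) h, fun h => ?_⟩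
  refine isRelAmple_of_data f g g.isClosedMap g.finite_preimage_singleton hL (fun V hV => ?_) h
  have hpt : ∀ x : X, (∃ U : X.Opens, x ∈ U ∧ GoodFree g U) ∨ NormalAt X x := fun x => by
    rcases hW x with ⟨hd, hn⟩ | ⟨T, hxT, hT⟩
    · exact Or.inr ⟨hn, H23.FinCondSch.exists_integral_nhd x⟩
    · exact Or.inl (goodFree_of_restrict g hT hxT)
  obtain ⟨D, hD, hdvd⟩ := exists_degree_noetherian g
  let N := genNorm g (E := expo D) (expo_pos D) (hdense_of_noetherian g) hpt
  refine ⟨N, _, D, hD, cl_tensorPow L D, ⟨Datum.ofPullback hL D fun U _ a =>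
    genNorm_app g (expo_pos D) (hdense_of_noetherian g) hpt D U
      (fun W hW _ hne => mul_expo hD (hdvd W hW hne)) a⟩⟩

theorem exists_ample_of_finite_surjective_normal (π : X ⟶ Y) [IsFinite π] [Surjective π] [IsIntegral Y]
    (hY : Pi1.IsNormalScheme Y) (L : X.Modules) (hL : CohB1.IsAmple L) : ∃ M : Y.Modules, CohB1.IsAmple M := by
  have hpt : ∀ y : Y, (∃ U : Y.Opens, y ∈ U ∧ GoodFree π U) ∨ NormalAt Y y := fun y =>
    Or.inr (normalAt_of_integral y (hY y).2)
  obtain ⟨M, ⟨D⟩⟩ := exists_datum (genNorm π (E := fun _ => 1) (fun _ => Nat.one_pos) (hdense_of_integral π) hpt)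
    hL.1
  exact ⟨M, isAmple_of_datum D hL⟩

theorem hasNorm_of_normal (π : X ⟶ Y) [IsFinite π] [Surjective π] [IsIntegral X] [IsIntegral Y]
    (hY : Pi1.IsNormalScheme Y) : ∃ d : ℕ, Nrm.HasNorm π d := by
  have hpt : ∀ y : Y, (∃ U : Y.Opens, y ∈ U ∧ GoodFree π U) ∨ NormalAt Y y := fun y =>
    Or.inr (normalAt_of_integral y (hY y).2)
  let y₀ : Y := Classical.arbitrary Y
  obtain ⟨V₀, -, ⟨z, hz⟩, hg₀⟩ := hdense_of_integral π ⊤ ⟨y₀, trivial⟩
  have hrk : ∀ W : Y.Opens, GoodFree π W → (∃ y, y ∈ W) → rk π W = rk π V₀ := fun W hW hne => by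
    obtain ⟨a, ha, hb⟩ := nonempty_preirreducible_inter W.isOpen V₀.isOpen hne ⟨z, hz⟩
    rw [← rk_res π hW (inf_le_left : W ⊓ V₀ ≤ W) ⟨ha, hb⟩, rk_res π hg₀ (inf_le_right : W ⊓ V₀ ≤ V₀) ⟨ha, hb⟩]
  let N := genNorm π (E := fun _ => 1) (fun _ => Nat.one_pos) (hdense_of_integral π) hpt
  refine ⟨rk π V₀, ⟨{ one_le := rk_pos π hg₀ hz
                      norm := N.norm
                      norm_res := fun i s => N.norm_res i.le s
                      norm_app := fun U g => genNorm_app π (fun _ => Nat.one_pos) (hdense_of_integral π) hpt _ U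
                        (fun W hW _ hne => by rw [mul_one]; exact hrk W hW hne) g
                      norm_mem := ?_ }⟩⟩
  intro U s x hx hmem
  rw [← not_not (a := _ ∈ IsLocalRing.maximalIdeal _), IsLocalRing.notMem_maximalIdeal,
    ← Scheme.mem_basicOpen Y _ (π x) hx]
  intro hy
  exact IsLocalRing.notMem_maximalIdeal.2
    ((Scheme.mem_basicOpen X s x hx).1 (genNorm_strong π _ _ hpt U s x hy)) hmem

end Groth.Agent.NormX
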