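import Mathlib

/-!
# Determinants of integral matrices over normal domains
-/

universe u v

open Polynomial

namespace Groth.Agent.NormX

section Det

variable {A : Type u} [CommRing A] [IsDomain A] [IsIntegrallyClosed A] {K : Type v} [Field K] [Algebra A K]
  [IsFractionRing A K] {ι : Type*} [Fintype ι] [DecidableEq ι]

/-- The characteristic polynomial divides a power of every polynomial killing a matrix. -/
theorem charpoly_dvd_pow {P : K[X]} (M : Matrix ι ι K) (hP : aeval M P = 0) :
    M.charpoly ∣ P ^ Fintype.card ι := by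
  let ψ : K[X] →+* Matrix ι ι K := (aeval M : K[X] →ₐ[K] Matrix ι ι K).toRingHom
  have h1 : (X - C X : K[X][X]) ∣ P.map C - C P := by
    have := X_sub_C_dvd_sub_C_eval (a := (X : K[X])) (p := P.map C)
    rwa [eval_map, eval₂_C_X] at this
  have h2 := map_dvd (mapRingHom ψ) h1
  simp only [coe_mapRingHom, Polynomial.map_sub, map_X, map_C, Polynomial.map_map] at h2
  have e1 : ψ X = M := aeval_X M
  have e2 : ψ P = 0 := hP
  have e3 : ψ.comp C = algebraMap K (Matrix ι ι K) := RingHom.ext fun c => aeval_C M c
  rw [e1, e2, e3, map_zero, sub_zero] at h2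
  obtain ⟨Q, hQ⟩ := h2
  have h3 : matPolyEquiv.symm (P.map (algebraMap K (Matrix ι ι K))) = P • (1 : Matrix ι ι K[X]) := by
    apply matPolyEquiv.injective
    rw [AlgEquiv.apply_symm_apply, matPolyEquiv_smul_one]
  have h4 : M.charmatrix = matPolyEquiv.symm (X - C M) := by
    apply matPolyEquiv.injective
    rw [AlgEquiv.apply_symm_apply, Matrix.matPolyEquiv_charmatrix]
  refine ⟨(matPolyEquiv.symm Q).det, ?_⟩
  rw [Matrix.charpoly, h4, ← Matrix.det_mul, ← map_mul, ← hQ, h3, Matrix.det_smul, Matrix.det_one, mul_one]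

/-- The characteristic polynomial of a matrix killed by a monic polynomial over a normal domain is integral. -/
theorem exists_charpoly_lift {P : A[X]} (hP : P.Monic) (M : Matrix ι ι K) (h : aeval M P = 0) :
    ∃ χ : A[X], χ.Monic ∧ χ.map (algebraMap A K) = M.charpoly ∧ χ ∣ P ^ Fintype.card ι := by
  have h1 : aeval M (P.map (algebraMap A K)) = 0 := by rwa [aeval_map_algebraMap]
  have h2 := charpoly_dvd_pow M h1
  rw [← Polynomial.map_pow] at h2
  obtain ⟨χ, hχ⟩ := IsIntegrallyClosed.eq_map_mul_C_of_dvd K (hP.pow _) h2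
  rw [M.charpoly_monic.leadingCoeff, C_1, mul_one] at hχ
  have hχm : χ.Monic := ((IsFractionRing.injective A K).monic_map_iff).2 (hχ ▸ M.charpoly_monic)
  exact ⟨χ, hχm, hχ, (map_dvd_map _ (IsFractionRing.injective A K) hχm).1 (hχ.symm ▸ h2)⟩

theorem exists_det_lift {P : A[X]} (hP : P.Monic) (M : Matrix ι ι K) (h : aeval M P = 0) :
    ∃ a : A, algebraMap A K a = M.det := by
  obtain ⟨χ, -, hχ, -⟩ := exists_charpoly_lift hP M h
  refine ⟨(-1) ^ Fintype.card ι * χ.coeff 0, ?_⟩
  rw [map_mul, map_pow, map_neg, map_one, Matrix.det_eq_sign_charpoly_coeff, ← hχ, coeff_map]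

/-- If a matrix is killed by a polynomial which is a power of `X` modulo a prime, its determinant lies in it. -/
theorem det_mem_of_pow {P : A[X]} (hP : P.Monic) (p : Ideal A) [p.IsPrime] {n : ℕ}
    (hn : P.map (Ideal.Quotient.mk p) = X ^ n) (M : Matrix ι ι K) (h : aeval M P = 0) [Nonempty ι] {a : A}
    (ha : algebraMap A K a = M.det) : a ∈ p := by
  obtain ⟨χ, hχm, hχ, hdvd⟩ := exists_charpoly_lift hP M h
  have ha' : a = (-1) ^ Fintype.card ι * χ.coeff 0 := by
    apply IsFractionRing.injective A K
    rw [ha, map_mul, map_pow, map_neg, map_one, Matrix.det_eq_sign_charpoly_coeff, ← hχ, coeff_map]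
  have h1 := Polynomial.map_dvd (Ideal.Quotient.mk p) hdvd
  rw [Polynomial.map_pow, hn, ← pow_mul] at h1
  obtain ⟨i, -, hi⟩ := (dvd_prime_pow prime_X _).1 h1
  have hmon : (χ.map (Ideal.Quotient.mk p)).Monic := hχm.map _
  have he : χ.map (Ideal.Quotient.mk p) = X ^ i := eq_of_monic_of_associated hmon (monic_X.pow i) hi
  have hdeg : χ.natDegree = Fintype.card ι := by
    rw [← natDegree_map_eq_of_injective (IsFractionRing.injective A K) χ, hχ, Matrix.charpoly_natDegree_eq_dim]
  have hipos : i ≠ 0 := by
    intro hi0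
    have := congrArg natDegree he
    rw [hχm.natDegree_map, hdeg, hi0, natDegree_pow, Nat.zero_mul] at this
    exact Fintype.card_ne_zero this
  have hc : χ.coeff 0 ∈ p := by
    rw [← Ideal.Quotient.eq_zero_iff_mem, ← coeff_map, he, coeff_X_pow, if_neg (Ne.symm hipos)]
  rw [ha']
  exact p.mul_mem_left _ hc

end Det

/-- An element with a multiple in `p B` satisfies a polynomial congruent to a power of `X`. -/
theorem exists_monic_of_mem_map {A : Type u} {B : Type v} [CommRing A] [CommRing B] [Algebra A B]
    [Module.Finite A B] (p : Ideal A) {b : B} (hb : b ∈ p.map (algebraMap A B)) :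
    ∃ (P : A[X]) (n : ℕ), P.Monic ∧ P.map (Ideal.Quotient.mk p) = X ^ n ∧ aeval b P = 0 := by
  have hrange : LinearMap.range (Algebra.lmul A B b) ≤ p • (⊤ : Submodule A B) := by
    rintro _ ⟨x, rfl⟩
    have hb' : b * x ∈ (p.map (algebraMap A B)).restrictScalars A := Ideal.mul_mem_right _ _ hb
    rwa [← Ideal.smul_top_eq_map] at hb'
  obtain ⟨P, hP, -, hcoeff, he⟩ :=
    LinearMap.exists_monic_and_natDegree_eq_and_coeff_mem_pow_and_aeval_eq_zero A (Algebra.lmul A B b) p hrange
  refine ⟨P, P.natDegree, hP, ?_, ?_⟩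
  · ext k
    rw [coeff_map, coeff_X_pow]
    rcases eq_or_ne k P.natDegree with rfl | hk
    · rw [if_pos rfl, hP.coeff_natDegree, map_one]
    rw [if_neg hk]
    rcases lt_or_gt_of_ne hk with hk' | hk'
    · rw [Ideal.Quotient.eq_zero_iff_mem]
      exact Ideal.pow_le_self (by omega) (hcoeff k)
    · rw [coeff_eq_zero_of_natDegree_lt hk', map_zero]
  · have h2 := congrArg (fun f : Module.End A B => f 1) he
    rw [aeval_algHom_apply] at h2
    simpa using h2

/-- A finite module over a domain is free near the generic point. -/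
theorem exists_free_away {A : Type u} [CommRing A] [IsDomain A] (M : Type v) [AddCommGroup M] [Module A M]
    [Module.Finite A M] :
    ∃ f : A, f ≠ 0 ∧ Module.Free (Localization.Away f) (LocalizedModule.Away f M) := by
  classical
  let S := nonZeroDivisors A
  let K := FractionRing A
  let q := LocalizedModule.mkLinearMap S M
  let b := Module.Free.chooseBasis K (LocalizedModule S M)
  haveI : Module.Finite K (LocalizedModule S M) := Module.Finite.of_isLocalizedModule S q
  haveI : Fintype (Module.Free.ChooseBasisIndex K (LocalizedModule S M)) := Fintype.ofFinite _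
  choose m hm using fun i => IsLocalizedModule.surj S q (b i)
  let v : Module.Free.ChooseBasisIndex K (LocalizedModule S M) → M := fun i => (m i).1
  have hv : ∀ i, q (v i) = (algebraMap A K (m i).2) • b i := fun i => by
    rw [algebraMap_smul]
    exact (hm i).symm
  have hne : ∀ i, algebraMap A K (m i).2 ≠ 0 := fun i => by
    simp
  let φ : (Module.Free.ChooseBasisIndex K (LocalizedModule S M) → A) →ₗ[A] M := Fintype.linearCombination A v
  have hinj : Function.Injective φ := by
    rw [← LinearMap.ker_eq_bot, eq_bot_iff]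
    intro c hc
    have h0 : q (φ c) = 0 := by rw [show φ c = 0 from hc, map_zero]
    rw [Fintype.linearCombination_apply, map_sum] at h0
    have h1 : ∑ i, (algebraMap A K (c i) * algebraMap A K (m i).2) • b i = 0 := by
      refine Eq.trans (Finset.sum_congr rfl fun i _ => ?_) h0
      rw [mul_smul, ← hv, map_smul, algebraMap_smul]
    refine funext fun i => ?_
    have h2 := Fintype.linearIndependent_iff.1 b.linearIndependent _ h1 i
    exact IsFractionRing.injective A K ((mul_eq_zero.1 h2).resolve_right (hne i) |>.trans (map_zero _).symm)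
  have htors : ∀ x : M, ∃ s : A, s ≠ 0 ∧ s • x ∈ LinearMap.range φ := by
    intro x
    obtain ⟨t, ht⟩ := IsLocalization.exist_integer_multiples_of_finite S
      (fun i => b.repr (q x) i / algebraMap A K (m i).2)
    choose c hc using ht
    have h1 : q ((t : A) • x) = q (φ c) := by
      rw [map_smul, Fintype.linearCombination_apply, map_sum]
      conv_lhs => rw [← b.sum_repr (q x), Finset.smul_sum]
      refine Finset.sum_congr rfl fun i _ => ?_
      rw [map_smul, hv, ← algebraMap_smul K (t : A), ← algebraMap_smul K (c i), smul_smul, smul_smul]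
      congr 1
      rw [hc i, Algebra.smul_def, mul_assoc, div_mul_cancel₀ _ (hne i)]
    obtain ⟨w, hw⟩ := IsLocalizedModule.exists_of_eq (S := S) h1
    refine ⟨w * t, mul_ne_zero (nonZeroDivisors.ne_zero w.2) (nonZeroDivisors.ne_zero t.2), ?_⟩
    refine ⟨(w : A) • c, ?_⟩
    rw [map_smul, mul_smul]
    exact hw.symm
  obtain ⟨T, hT⟩ := (inferInstance : Module.Finite A M).fg_top
  choose s hs hsm using htors
  refine ⟨∏ x ∈ T, s x, Finset.prod_ne_zero_iff.2 fun x _ => hs x, ?_⟩
  set f := ∏ x ∈ T, s x
  have hall : ∀ x : M, f • x ∈ LinearMap.range φ := by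
    intro x
    have hx : x ∈ Submodule.span A (T : Set M) := hT ▸ trivial
    induction hx using Submodule.span_induction with
    | mem y hy =>
      obtain ⟨d, hd⟩ := Finset.dvd_prod_of_mem s hy
      rw [show f = d * s y by rw [mul_comm]; exact hd, mul_smul]
      exact Submodule.smul_mem _ _ (hsm y)
    | zero => rw [smul_zero]; exact zero_mem _
    | add y z _ _ hy hz => rw [smul_add]; exact add_mem hy hz
    | smul a y _ hy => rw [smul_comm]; exact Submodule.smul_mem _ a hy
  let qA := LocalizedModule.mkLinearMap (Submonoid.powers f) (Module.Free.ChooseBasisIndex K (LocalizedModule S M) → A)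
  let qM := LocalizedModule.mkLinearMap (Submonoid.powers f) M
  let φ₀ := IsLocalizedModule.map (Submonoid.powers f) qA qM φ
  let φ' := φ₀.extendScalarsOfIsLocalization (Submonoid.powers f) (Localization.Away f)
  have hbij : Function.Bijective φ' := by
    refine ⟨IsLocalizedModule.map_injective (Submonoid.powers f) qA qM φ hinj, fun z => ?_⟩
    obtain ⟨⟨x, t⟩, hxt⟩ := IsLocalizedModule.mk'_surjective (Submonoid.powers f) qM z
    obtain ⟨y, hy⟩ := hall x
    refine ⟨IsLocalizedModule.mk' qA y (t * ⟨f, Submonoid.mem_powers f⟩), ?_⟩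
    show φ₀ _ = z
    rw [← hxt, IsLocalizedModule.map_mk', hy, mul_comm, ← Submonoid.mk_smul (S := Submonoid.powers f) f (Submonoid.mem_powers f) x,
      IsLocalizedModule.mk'_cancel_left]
    rfl
  haveI : Module.Free (Localization.Away f) (LocalizedModule.Away f
      (Module.Free.ChooseBasisIndex K (LocalizedModule S M) → A)) :=
    Module.free_of_isLocalizedModule (Submonoid.powers f) qA
  exact Module.Free.of_equiv (LinearEquiv.ofBijective φ' hbij)

/-- The determinant of an integral element is a fraction at a normal prime, and detects zeros above it. -/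
theorem det_core {A : Type u} {B : Type v} [CommRing A] [IsDomain A] [CommRing B] [Algebra A B] [Module.Finite A B]
    (K : Type u) [Field K] [Algebra A K] [IsFractionRing A K] {ι : Type*} [Fintype ι] [DecidableEq ι] [Nonempty ι]
    (Φ : B →+* Matrix ι ι K) (hΦ : ∀ a : A, Φ (algebraMap A B a) = algebraMap A (Matrix ι ι K) a)
    (p : Ideal A) [p.IsPrime] [IsIntegrallyClosed (Localization.AtPrime p)] (t : B) :
    ∃ a c : A, c ∉ p ∧ (Φ t).det * algebraMap A K c = algebraMap A K a ∧
      (a ∉ p → (∃ q : Ideal B, q.IsPrime ∧ q.comap (algebraMap A B) = p ∧ t ∉ q) ∧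
        (Function.Injective Φ → ∀ q : Ideal B, q.IsPrime → q.comap (algebraMap A B) = p → t ∉ q)) := by
  let A' := Localization.subalgebra K p.primeCompl p.primeCompl_le_nonZeroDivisors
  haveI : IsLocalization.AtPrime A' p := Localization.subalgebra.isLocalization_subalgebra K p.primeCompl _
  haveI : IsFractionRing A' K := Localization.subalgebra.isFractionRing K p.primeCompl _
  haveI : IsIntegrallyClosed A' :=
    IsIntegrallyClosed.of_equiv (IsLocalization.algEquiv p.primeCompl (Localization.AtPrime p) A').toRingEquiv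
  haveI := IsLocalization.AtPrime.isLocalRing A' p
  have hmp := (IsLocalRing.maximalIdeal.isMaximal A').isPrime
  let ΦA : B →ₐ[A] Matrix ι ι K := { Φ with commutes' := hΦ }
  obtain ⟨P, hP, hPt⟩ := IsIntegral.of_finite A t
  have hPM : aeval (Φ t) (P.map (algebraMap A A')) = 0 := by
    rw [aeval_map_algebraMap, show Φ t = ΦA t from rfl, aeval_algHom_apply]
    rw [show aeval t P = 0 from hPt, map_zero]
  obtain ⟨χ, -, hχ, -⟩ := exists_charpoly_lift (K := K) (hP.map _) (Φ t) hPM
  let d : A' := (-1) ^ Fintype.card ι * χ.coeff 0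
  have hd : algebraMap A' K d = (Φ t).det := by
    rw [map_mul, map_pow, map_neg, map_one, Matrix.det_eq_sign_charpoly_coeff, ← hχ, coeff_map]
  obtain ⟨a, c, hac⟩ := IsLocalization.exists_mk'_eq p.primeCompl d
  refine ⟨a, c, c.2, ?_, fun hap => ?_⟩
  · rw [← hd, ← hac, IsScalarTower.algebraMap_apply A A' K, IsScalarTower.algebraMap_apply A A' K,
      ← map_mul, IsLocalization.mk'_spec]
  have hdm : d ∉ IsLocalRing.maximalIdeal A' := fun h => by
    rw [← hac, IsLocalization.AtPrime.mk'_mem_maximal_iff A' p] at h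
    exact hap h
  refine ⟨?_, fun hinj q hq hqp htq => ?_⟩
  · by_contra hno
    let T : Submonoid B := p.primeCompl.map (algebraMap A B) ⊔ Submonoid.powers t
    obtain ⟨k, c₀, hck⟩ : ∃ (k : ℕ) (c₀ : p.primeCompl),
        algebraMap A B c₀ * t ^ k ∈ p.map (algebraMap A B) := by
      by_contra hc
      have hdisj : Disjoint ((p.map (algebraMap A B) : Ideal B) : Set B) (T : Set B) := by
        rw [Set.disjoint_left]
        intro u hu huT
        obtain ⟨_, ⟨c₀, hc₀, rfl⟩, _, ⟨k, rfl⟩, rfl⟩ := Submonoid.mem_sup.1 huT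
        exact hc ⟨k, ⟨c₀, hc₀⟩, hu⟩
      obtain ⟨q, hq, hpq, hqT⟩ := Ideal.exists_le_prime_disjoint _ T hdisj
      refine hno ⟨q, hq, le_antisymm (fun x hx => ?_) (Ideal.map_le_iff_le_comap.1 hpq),
        fun h => Set.disjoint_left.1 hqT h (Submonoid.mem_sup_right (Submonoid.mem_powers t))⟩
      by_contra hxp
      exact Set.disjoint_left.1 hqT hx (Submonoid.mem_sup_left ⟨x, hxp, rfl⟩)
    obtain ⟨Q, n, hQ, hQn, hQb⟩ := exists_monic_of_mem_map p hck
    have hQM : aeval (ΦA (algebraMap A B c₀ * t ^ k)) (Q.map (algebraMap A A')) = 0 := by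
      rw [aeval_map_algebraMap, aeval_algHom_apply, hQb, map_zero]
    have hdet₂ : algebraMap A' K (algebraMap A A' c₀ ^ Fintype.card ι * d ^ k) =
        (ΦA (algebraMap A B c₀ * t ^ k)).det := by
      rw [map_mul ΦA, map_pow ΦA, show ΦA (algebraMap A B c₀) = algebraMap A (Matrix ι ι K) c₀ from hΦ _,
        ← Algebra.smul_def, ← algebraMap_smul K (c₀ : A), Matrix.det_smul, Matrix.det_pow, map_mul, map_pow,
        map_pow, hd, ← IsScalarTower.algebraMap_apply A A' K]
      rfl
    have hQ' : (Q.map (algebraMap A A')).map (Ideal.Quotient.mk (IsLocalRing.maximalIdeal A')) = Polynomial.X ^ n := by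
      have hfac : (Ideal.Quotient.mk (IsLocalRing.maximalIdeal A')).comp (algebraMap A A') =
          (Ideal.quotientMap (IsLocalRing.maximalIdeal A') (algebraMap A A')
            (fun c hc => by
              rw [Ideal.mem_comap]
              exact (IsLocalization.AtPrime.to_map_mem_maximal_iff A' p c).2 hc)).comp (Ideal.Quotient.mk p) :=
        (Ideal.quotientMap_comp_mk _).symm
      rw [Polynomial.map_map, hfac, ← Polynomial.map_map, hQn, Polynomial.map_pow, Polynomial.map_X]
    have h1 := det_mem_of_pow (K := K) (hQ.map _) (IsLocalRing.maximalIdeal A') hQ' _ hQM hdet₂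
    rcases hmp.mem_or_mem h1 with h2 | h2
    · exact c₀.2 ((IsLocalization.AtPrime.to_map_mem_maximal_iff A' p (c₀ : A)).1 (hmp.mem_of_pow_mem _ h2))
    · exact hdm (hmp.mem_of_pow_mem _ h2)
  · obtain ⟨c₁, hc₁, hmap⟩ := IsLocalization.integerNormalization_spec p.primeCompl χ
    set Q := IsLocalization.integerNormalization p.primeCompl χ
    have hQ0 : aeval t Q = 0 := by
      apply hinj
      show ΦA (aeval t Q) = Φ 0
      rw [map_zero, ← aeval_algHom_apply, ← aeval_map_algebraMap A', hmap, ← algebraMap_smul A' c₁,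
        map_smul, ← aeval_map_algebraMap K (ΦA t) χ, hχ]
      rw [show ΦA t = Φ t from rfl, Matrix.aeval_self_charpoly, smul_zero]
    have hmem : algebraMap A B (Q.coeff 0) ∈ q := by
      have h1 := congrArg (aeval t) (X_mul_divX_add Q)
      rw [map_add, map_mul, aeval_X, aeval_C, hQ0] at h1
      rw [eq_neg_of_add_eq_zero_right h1]
      exact q.neg_mem (q.mul_mem_right _ htq)
    have h2 : Q.coeff 0 ∈ p := by rw [← hqp]; exact hmem
    have h3 := (IsLocalization.AtPrime.to_map_mem_maximal_iff A' p _).2 h2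
    have h4 := congrArg (fun f : A'[X] => f.coeff 0) hmap
    simp only [coeff_map, Polynomial.coeff_smul] at h4
    rw [h4, Algebra.smul_def] at h3
    rcases hmp.mem_or_mem h3 with h5 | h5
    · exact hc₁ ((IsLocalization.AtPrime.to_map_mem_maximal_iff A' p c₁).1 h5)
    · exact hdm (Ideal.mul_mem_left _ _ h5)

end Groth.Agent.NormX
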