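import Groth.Agent.AmpleX.Sect
import Groth.Agent.AmpleX.FiniteSet
import Groth.Agent.AmpleX.Separated

/-!
# Norms of sections of invertible modules

A `WNorm` for `π : X ⟶ Y` is a multiplicative norm on functions, compatible with restriction, whose value is not
invertible at a point all of whose preimages are zeros. A `Datum` pairs frames of a module upstairs with frames of a
module downstairs so that the transition functions are norms of each other; it lets us define norms of sections.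
-/

universe u

open CategoryTheory AlgebraicGeometry TopologicalSpace
open Groth.Agent.H23.PicMul

set_option backward.isDefEq.respectTransparency false
set_option backward.isDefEq.respectTransparency.types false

namespace Groth.Agent.NormX

open Groth.Agent Groth.Agent.AmpleX

variable {X Y : Scheme.{u}}

/-- A weak norm of functions. -/
structure WNorm (π : X ⟶ Y) where
  /-- The norm on sections. -/
  norm : ∀ U : Y.Opens, Γ(X, π ⁻¹ᵁ U) →* Γ(Y, U)
  norm_res : ∀ {U V : Y.Opens} (h : V ≤ U) (s : Γ(X, π ⁻¹ᵁ U)),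
    AModX.resR h (norm U s) = norm V (AModX.resR (π.preimage_mono h) s)
  norm_mem : ∀ (U : Y.Opens) (s : Γ(X, π ⁻¹ᵁ U)) (y : Y), y ∈ U →
    (∀ x : X, π x = y → x ∉ X.basicOpen s) → y ∉ Y.basicOpen (norm U s)

namespace WNorm

variable {π : X ⟶ Y} (N : WNorm π)

/-- If a function is invertible along a fibre of a closed map then its norm is invertible at the point. -/
lemma mem_basicOpen (hπ : IsClosedMap π) {U : Y.Opens} (s : Γ(X, π ⁻¹ᵁ U)) {y : Y} (hy : y ∈ U)
    (h : ∀ x : X, π x = y → x ∈ X.basicOpen s) : y ∈ Y.basicOpen (N.norm U s) := by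
  let V : Y.Opens := U ⊓ ⟨(π '' (X.basicOpen s : Set X)ᶜ)ᶜ, (hπ _ (X.basicOpen s).isOpen.isClosed_compl).isOpen_compl⟩
  have hyV : y ∈ V := ⟨hy, fun ⟨x, hx, e⟩ => hx (h x e)⟩
  have hV : π ⁻¹ᵁ V ≤ X.basicOpen s := fun x hx => by
    by_contra hc
    exact hx.2 ⟨x, hc, rfl⟩
  have hu : IsUnit (AModX.resR (π.preimage_mono (inf_le_left : V ≤ U)) s) := AModX.isUnit_resR _ _ hV
  have hu' := hu.map (N.norm V)
  rw [← N.norm_res (inf_le_left : V ≤ U)] at hu'
  have h1 := Y.basicOpen_of_isUnit hu'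
  rw [show AModX.resR (inf_le_left : V ≤ U) (N.norm U s) =
    Y.presheaf.map (homOfLE inf_le_left).op (N.norm U s) from rfl, Scheme.basicOpen_res] at h1
  have h2 : y ∈ V ⊓ Y.basicOpen (N.norm U s) := by rw [h1]; exact hyV
  exact h2.2

lemma exists_mem_basicOpen {U : Y.Opens} (s : Γ(X, π ⁻¹ᵁ U)) {y : Y}
    (hy : y ∈ Y.basicOpen (N.norm U s)) : ∃ x : X, π x = y ∧ x ∈ X.basicOpen s := by
  by_contra hc
  exact N.norm_mem U s y (Y.basicOpen_le _ hy) (fun x hx hxs => hc ⟨x, hx, hxs⟩) hy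

end WNorm

/-- Frames upstairs and downstairs whose transition functions correspond under the norm. -/
structure Datum {π : X ⟶ Y} (N : WNorm π) (B : Y.Opens) (L : X.Modules) (M : Y.Modules) where
  /-- The index type. -/
  ι : Type u
  /-- The cover. -/
  U : ι → Y.Opens
  cov : ∀ y ∈ B, ∃ i, y ∈ U i
  /-- The frames upstairs. -/
  e : ∀ i, Γ(L, π ⁻¹ᵁ U i)
  he : ∀ i, InvX.IsFrame (e i)
  /-- The frames downstairs. -/
  f : ∀ i, Γ(M, U i)
  hf : ∀ i, InvX.IsFrame (f i)
  compat : ∀ (i j : ι) (V : Y.Opens) (hi : V ≤ U i) (hj : V ≤ U j) (c : Γ(X, π ⁻¹ᵁ V)),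
    AModX.res L (π.preimage_mono hj) (e j) = c • AModX.res L (π.preimage_mono hi) (e i) →
    AModX.res M hj (f j) = N.norm V c • AModX.res M hi (f i)

namespace Datum

variable {π : X ⟶ Y} {N : WNorm π} {B : Y.Opens} {L : X.Modules} {M : Y.Modules} (D : Datum N B L M)

include D in
lemma isInvertible (hB : B = ⊤) : PicF.IsInvertible M :=
  InvX.isInvertible_of_frames fun y =>
    ⟨D.U (D.cov y (hB.ge trivial)).choose, (D.cov y (hB.ge trivial)).choose_spec, _, D.hf _⟩

include D in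
/-- The norm of a section. -/
theorem exists_normSection (hπ : IsClosedMap π) {W : Y.Opens} (hWB : W ≤ B) (s : Γ(L, π ⁻¹ᵁ W)) :
    ∃ b : Γ(M, W), (∀ y : Y, y ∈ W → (∀ x : X, π x = y → x ∈ locus s) → y ∈ locus b) ∧
      ∀ y ∈ locus b, ∃ x : X, π x = y ∧ x ∈ locus s := by
  let V : D.ι → Y.Opens := fun i => W ⊓ D.U i
  have hVW : ∀ i, V i ≤ W := fun i => inf_le_left
  have hVU : ∀ i, V i ≤ D.U i := fun i => inf_le_right
  have hex := fun i => (D.he i).exists_coord (π.preimage_mono (hVU i)) (AModX.res L (π.preimage_mono (hVW i)) s)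
  choose c hc using hex
  let sf : ∀ i, Γ(M, V i) := fun i => N.norm (V i) (c i) • AModX.res M (hVU i) (D.f i)
  obtain ⟨b, hb, -⟩ := AModX.existsUnique_glue (M := M) (V := W) V hVW
    (fun p hp => ⟨_, hp, (D.cov p (hWB hp)).choose_spec⟩) sf (fun i j => by
      have hi : V i ⊓ V j ≤ D.U i := inf_le_left.trans (hVU i)
      have hj : V i ⊓ V j ≤ D.U j := inf_le_right.trans (hVU j)
      obtain ⟨d, hd⟩ := (D.he i).exists_coord (π.preimage_mono hi) (AModX.res L (π.preimage_mono hj) (D.e j))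
      have key : AModX.resR (π.preimage_mono (inf_le_left : V i ⊓ V j ≤ V i)) (c i) =
          AModX.resR (π.preimage_mono (inf_le_right : V i ⊓ V j ≤ V j)) (c j) * d := by
        refine (D.he i).coord_unique (π.preimage_mono hi) ?_
        rw [mul_smul, ← hd]
        have e1 := congrArg (AModX.res L (π.preimage_mono (inf_le_left : V i ⊓ V j ≤ V i))) (hc i)
        have e2 := congrArg (AModX.res L (π.preimage_mono (inf_le_right : V i ⊓ V j ≤ V j))) (hc j)
        rw [AModX.res_res, AModX.res_smul, AModX.res_res] at e1 e2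
        exact e1.symm.trans e2
      simp only [sf]
      rw [AModX.res_smul, AModX.res_smul, AModX.res_res, AModX.res_res, N.norm_res, N.norm_res, key,
        map_mul, mul_smul, D.compat i j _ hi hj d hd])
  have hloc : ∀ i, locus b ⊓ V i = Y.basicOpen (N.norm (V i) (c i)) := fun i =>
    locus_inf b (hVW i) ((D.hf i).res (hVU i)) (hb i)
  have hlocs : ∀ i, locus s ⊓ π ⁻¹ᵁ V i = X.basicOpen (c i) := fun i =>
    locus_inf s (π.preimage_mono (hVW i)) ((D.he i).res (π.preimage_mono (hVU i))) (hc i)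
  refine ⟨b, fun y hyW h => ?_, fun y hy => ?_⟩
  · obtain ⟨i, hi⟩ := D.cov y (hWB hyW)
    have hyV : y ∈ V i := ⟨hyW, hi⟩
    have h1 : y ∈ Y.basicOpen (N.norm (V i) (c i)) := N.mem_basicOpen hπ (c i) hyV fun x hx => by
      rw [← hlocs i]
      exact ⟨h x hx, show π x ∈ V i by rw [hx]; exact hyV⟩
    rw [← hloc i] at h1
    exact h1.1
  · obtain ⟨i, hi⟩ := D.cov y (hWB (locus_le b hy))
    have h1 : y ∈ locus b ⊓ V i := ⟨hy, locus_le b hy, hi⟩
    rw [hloc i] at h1
    obtain ⟨x, hx, hxc⟩ := N.exists_mem_basicOpen (c i) h1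
    rw [← hlocs i] at hxc
    exact ⟨x, hx, hxc.1⟩

/-- A datum for all powers. -/
noncomputable def pow (n : ℕ) : Datum N B (CohB1.tensorPow L n) (CohB1.tensorPow M n) where
  ι := D.ι
  U := D.U
  cov := D.cov
  e i := powElt (D.e i) n
  he i := isFrame_powElt (D.he i) n
  f i := powElt (D.f i) n
  hf i := isFrame_powElt (D.hf i) n
  compat i j V hi hj c h := by
    obtain ⟨d, hd⟩ := (D.he i).exists_coord (π.preimage_mono hi) (AModX.res L (π.preimage_mono hj) (D.e j))
    have hc : c = d ^ n := by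
      refine (isFrame_powElt (D.he i) n).coord_unique (π.preimage_mono hi) ?_
      rw [← h, res_powElt, hd, powElt_smul, ← res_powElt]
    rw [res_powElt, D.compat i j V hi hj d hd, powElt_smul, ← res_powElt, hc, map_pow]

/-- The datum of a pulled back module, for a norm of degree `d`. -/
noncomputable def ofPullback {M : Y.Modules} (hM : PicF.IsInvertible M) (d : ℕ)
    (hdeg : ∀ (U : Y.Opens), U ≤ B → ∀ g : Γ(Y, U), N.norm U (π.app U g) = g ^ d) :
    Datum N B ((Scheme.Modules.pullback π).obj M) (CohB1.tensorPow M d) where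
  ι := Y
  U y := (InvX.exists_frame hM y).choose ⊓ B
  cov y hy := ⟨y, (InvX.exists_frame hM y).choose_spec.1, hy⟩
  e y := InvX.pullElt π (AModX.res M inf_le_left (InvX.exists_frame hM y).choose_spec.2.choose)
  he y := InvX.isFrame_pullElt π ((InvX.exists_frame hM y).choose_spec.2.choose_spec.res _)
  f y := powElt (AModX.res M inf_le_left (InvX.exists_frame hM y).choose_spec.2.choose) d
  hf y := isFrame_powElt ((InvX.exists_frame hM y).choose_spec.2.choose_spec.res _) d
  compat i j V hi hj c h := by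
    have hfi := (InvX.exists_frame hM i).choose_spec.2.choose_spec.res
      (inf_le_left : (InvX.exists_frame hM i).choose ⊓ B ≤ (InvX.exists_frame hM i).choose)
    obtain ⟨a, ha⟩ := hfi.exists_coord hi
      (AModX.res M hj (AModX.res M inf_le_left (InvX.exists_frame hM j).choose_spec.2.choose))
    have hc : c = π.app V a := by
      refine (InvX.isFrame_pullElt π hfi).coord_unique (π.preimage_mono hi) ?_
      rw [← h, InvX.res_pullElt π hj, ha, InvX.pullElt_smul, ← InvX.res_pullElt π hi]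
    rw [res_powElt, ha, powElt_smul, ← res_powElt, hc, hdeg V (hi.trans inf_le_right)]

end Datum

/-- An affine locus containing a finite set, over an open on which the module is ample. -/
theorem exists_locus_finite {Z : Scheme.{u}} {L : X.Modules} (j : Z ⟶ X) [IsOpenImmersion j]
    (h : CohB1.IsAmple (L.restrict j)) {F : Set X} (hF : F.Finite) (hFj : F ⊆ (j ''ᵁ (⊤ : Z.Opens) : X.Opens))
    {U : X.Opens} (hFU : F ⊆ U) :
    ∃ (m : ℕ) (_ : 0 < m) (a : Γ(CohB1.tensorPow L m, j ''ᵁ ⊤)),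
      F ⊆ locus a ∧ locus a ≤ U ∧ IsAffineOpen (locus a) := by
  haveI := isSeparated_of_isAmple h
  have hF' : (j ⁻¹' F).Finite := hF.preimage j.isOpenEmbedding.injective.injOn
  obtain ⟨n, s, hFs, hsU, hs⟩ := exists_finite_nhd h hF' (U := j ⁻¹ᵁ U) (fun z hz => hFU hz)
  obtain ⟨a, ha⟩ := exists_section_extendable j s
  refine ⟨n + 1, Nat.succ_pos n, a, fun x hx => ?_, ?_, ha.symm ▸ hs.image_of_isOpenImmersion j⟩
  · obtain ⟨z, -, rfl⟩ := hFj hx
    rw [ha]
    exact ⟨z, hFs hx, rfl⟩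
  · rw [ha]
    refine (j.image_mono (V := j ⁻¹ᵁ U) hsU).trans ?_
    rw [Scheme.Hom.image_preimage_eq_opensRange_inf]
    exact inf_le_right

/-- Ampleness descends along a closed map with finite fibres and norms. -/
theorem isRelAmple_of_data {X' S : Scheme.{u}} (f : X ⟶ S) [QuasiCompact f] (g : X' ⟶ X)
    (hg : IsClosedMap g) (hfin : ∀ x : X, (g ⁻¹' {x}).Finite) {L' : X'.Modules} {M : X.Modules}
    (hM : PicF.IsInvertible M)
    (hD : ∀ V : S.Opens, IsAffineOpen V → ∃ (N : WNorm g) (M' : X.Modules) (d : ℕ), 0 < d ∧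
      PicF.cl M' = PicF.cl M ^ d ∧ Nonempty (Datum N (f ⁻¹ᵁ V) L' M'))
    (h : RelAmple.IsRelAmple (g ≫ f) L') : RelAmple.IsRelAmple f M := by
  refine isRelAmple_of_sections hM fun x => ?_
  obtain ⟨_, ⟨V, hV, rfl⟩, hxV, -⟩ :=
    S.isBasis_affineOpens.exists_subset_of_mem_open (Set.mem_univ (f x)) isOpen_univ
  refine ⟨V, hxV, f.isCompact_preimage hV.isCompact, fun x' hx' => ?_⟩
  obtain ⟨N, M', d, hd, hcl, ⟨D⟩⟩ := hD V hV
  obtain ⟨_, ⟨W, hW, rfl⟩, hxW, hWV⟩ :=
    X.isBasis_affineOpens.exists_subset_of_mem_open (show x' ∈ f ⁻¹ᵁ V from hx') (f ⁻¹ᵁ V).isOpen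
  have e : ((g ≫ f) ⁻¹ᵁ V).ι ''ᵁ ⊤ = g ⁻¹ᵁ (f ⁻¹ᵁ V) := Scheme.Opens.ι_image_top _
  obtain ⟨m, hm, a, hFa, haW, -⟩ := exists_locus_finite _ (h.2 ⟨V, hV⟩) (hfin x')
    (fun z hz => by
      rw [e]
      show f (g z) ∈ V
      rw [show g z = x' from hz]
      exact hx')
    (U := g ⁻¹ᵁ W) (fun z hz => show g z ∈ W by rw [show g z = x' from hz]; exact hxW)
  let a' : Γ(CohB1.tensorPow L' m, g ⁻¹ᵁ (f ⁻¹ᵁ V)) := AModX.res _ e.ge a
  have ha' : locus a' = locus a := by
    simp only [a', locus_res]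
    exact inf_eq_left.2 ((locus_le a).trans e.le)
  obtain ⟨b₀, hb1, hb2⟩ := (D.pow m).exists_normSection hg le_rfl a'
  obtain ⟨b, hb⟩ := exists_locus_cl (N := CohB1.tensorPow M (d * m))
    (show PicF.cl (CohB1.tensorPow M' m) = _ by rw [cl_tensorPow, cl_tensorPow, hcl, pow_mul]) b₀
  refine ⟨d * m, Nat.mul_pos hd hm, b,
    by rw [hb]; exact hb1 x' hx' fun z hz => by rw [ha']; exact hFa hz, ?_⟩
  have hbW : locus b ≤ W := fun y hy => by
    rw [hb] at hy
    obtain ⟨z, hz, hza⟩ := hb2 y hy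
    rw [ha'] at hza
    rw [← hz]
    exact haW hza
  have := isAffineOpen_inf_locus (InvX.isInvertible_tensorPow hM (d * m)) hW b hWV
  rwa [inf_eq_right.2 hbW] at this

/-- Ampleness descends along a closed map with finite fibres and a norm. -/
theorem isRelAmple_of_datum {X' S : Scheme.{u}} (f : X ⟶ S) [QuasiCompact f] (g : X' ⟶ X)
    (hg : IsClosedMap g) (hfin : ∀ x : X, (g ⁻¹' {x}).Finite) {N : WNorm g} {L' : X'.Modules} {M : X.Modules}
    (D : Datum N ⊤ L' M) (h : RelAmple.IsRelAmple (g ≫ f) L') : RelAmple.IsRelAmple f M :=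
  isRelAmple_of_data f g hg hfin (D.isInvertible rfl) (fun V _ => ⟨N, M, 1, Nat.one_pos, (pow_one _).symm,
    ⟨{ D with cov := fun y _ => D.cov y trivial }⟩⟩) h

end Groth.Agent.NormX
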