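import Groth.Agent.NormX.Glue
import Groth.Agent.H23.Frame
import Groth.Agent.H23.CoverPush

/-!
# The norm of a finite locally free morphism
-/

universe u

open CategoryTheory AlgebraicGeometry TopologicalSpace

set_option backward.isDefEq.respectTransparency false
set_option backward.isDefEq.respectTransparency.types false

namespace Groth.Agent.NormX

open Groth.Agent Groth.Agent.H23

variable {X Y : Scheme.{u}} (π : X ⟶ Y)

/-- A basis of functions upstairs over all smaller opens. -/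
def IsBasisOn {r : ℕ} {U : Y.Opens} (s : Fin r → Γ(X, π ⁻¹ᵁ U)) : Prop :=
  ∀ (W : Y.Opens) (h : W ≤ U),
    Function.Bijective fun c : Fin r → Γ(Y, W) => ∑ i, π.app W (c i) * AModX.resR (π.preimage_mono h) (s i)

/-- Opens inside one with a basis. -/
def GoodFree (W : Y.Opens) : Prop :=
  ∃ (r : ℕ) (U : Y.Opens) (s : Fin r → Γ(X, π ⁻¹ᵁ U)), W ≤ U ∧ IsBasisOn π s

/-- Rank of the functions upstairs over an open. -/
noncomputable def rk (W : Y.Opens) : ℕ :=
  letI := CoverPush.alg π W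
  Module.finrank Γ(Y, W) Γ(X, π ⁻¹ᵁ W)

/-- The basis over a smaller open. -/
noncomputable def basisAt {r : ℕ} {U : Y.Opens} {s : Fin r → Γ(X, π ⁻¹ᵁ U)} (hs : IsBasisOn π s)
    {W : Y.Opens} (h : W ≤ U) :
    letI := CoverPush.alg π W
    Module.Basis (Fin r) Γ(Y, W) Γ(X, π ⁻¹ᵁ W) :=
  letI := CoverPush.alg π W
  Module.Basis.ofEquivFun (LinearEquiv.ofBijective
    (Fintype.linearCombination Γ(Y, W) fun i => AModX.resR (π.preimage_mono h) (s i)) (by
      convert hs W h using 1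
      funext c
      rw [Fintype.linearCombination_apply]
      rfl)).symm

theorem basisAt_apply {r : ℕ} {U : Y.Opens} {s : Fin r → Γ(X, π ⁻¹ᵁ U)} (hs : IsBasisOn π s)
    {W : Y.Opens} (h : W ≤ U) (i : Fin r) :
    letI := CoverPush.alg π W
    basisAt π hs h i = AModX.resR (π.preimage_mono h) (s i) := by
  letI := CoverPush.alg π W
  simp only [basisAt, Module.Basis.coe_ofEquivFun, LinearEquiv.symm_symm, LinearEquiv.ofBijective_apply,
    Fintype.linearCombination_apply_single, one_smul]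

theorem sum_basisAt {r : ℕ} {U : Y.Opens} {s : Fin r → Γ(X, π ⁻¹ᵁ U)} (hs : IsBasisOn π s)
    {W : Y.Opens} (h : W ≤ U) (t : Γ(X, π ⁻¹ᵁ W)) :
    letI := CoverPush.alg π W
    ∑ i, π.app W ((basisAt π hs h).repr t i) * AModX.resR (π.preimage_mono h) (s i) = t := by
  letI := CoverPush.alg π W
  have h1 := (basisAt π hs h).sum_repr t
  refine Eq.trans (Finset.sum_congr rfl fun i _ => ?_) h1
  rw [Algebra.smul_def]
  exact congrArg _ (basisAt_apply π hs h i).symm

theorem app_resR {W V : Y.Opens} (h : V ≤ W) (a : Γ(Y, W)) :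
    AModX.resR (π.preimage_mono h) (π.app W a) = π.app V (AModX.resR h a) :=
  (ConcreteCategory.congr_hom (π.naturality (homOfLE h).op) a).symm

theorem repr_res {r : ℕ} {U : Y.Opens} {s : Fin r → Γ(X, π ⁻¹ᵁ U)} (hs : IsBasisOn π s)
    {W V : Y.Opens} (h : W ≤ U) (hV : V ≤ W) (t : Γ(X, π ⁻¹ᵁ W)) (i : Fin r) :
    letI := CoverPush.alg π W
    letI := CoverPush.alg π V
    (basisAt π hs (hV.trans h)).repr (AModX.resR (π.preimage_mono hV) t) i =
      AModX.resR hV ((basisAt π hs h).repr t i) := by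
  letI := CoverPush.alg π W
  letI := CoverPush.alg π V
  refine congrFun ((hs V (hV.trans h)).1
    (a₁ := fun i => (basisAt π hs (hV.trans h)).repr (AModX.resR (π.preimage_mono hV) t) i)
    (a₂ := fun i => AModX.resR hV ((basisAt π hs h).repr t i)) ?_) i
  show ∑ i, π.app V ((basisAt π hs (hV.trans h)).repr (AModX.resR (π.preimage_mono hV) t) i) *
      AModX.resR (π.preimage_mono (hV.trans h)) (s i) =
    ∑ i, π.app V (AModX.resR hV ((basisAt π hs h).repr t i)) * AModX.resR (π.preimage_mono (hV.trans h)) (s i)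
  rw [sum_basisAt]
  have h2 := congrArg (AModX.resR (π.preimage_mono hV)) (sum_basisAt π hs h t)
  rw [map_sum] at h2
  refine h2.symm.trans (Finset.sum_congr rfl fun i _ => ?_)
  rw [map_mul, app_resR, AModX.resR_resR]

theorem norm_res {W V : Y.Opens} (hg : GoodFree π W) (hV : V ≤ W) (t : Γ(X, π ⁻¹ᵁ W)) :
    letI := CoverPush.alg π W
    letI := CoverPush.alg π V
    AModX.resR hV (Algebra.norm Γ(Y, W) t) = Algebra.norm Γ(Y, V) (AModX.resR (π.preimage_mono hV) t) := by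
  letI := CoverPush.alg π W
  letI := CoverPush.alg π V
  obtain ⟨r, U, s, h, hs⟩ := hg
  rw [Algebra.norm_eq_matrix_det (basisAt π hs h), Algebra.norm_eq_matrix_det (basisAt π hs (hV.trans h)),
    RingHom.map_det]
  congr 1
  ext i j
  rw [RingHom.mapMatrix_apply, Matrix.map_apply, Algebra.leftMulMatrix_eq_repr_mul,
    Algebra.leftMulMatrix_eq_repr_mul, ← repr_res π hs h hV, basisAt_apply, basisAt_apply, map_mul,
    AModX.resR_resR]

theorem rk_eq {r : ℕ} {U : Y.Opens} {s : Fin r → Γ(X, π ⁻¹ᵁ U)} (hs : IsBasisOn π s)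
    {W : Y.Opens} (h : W ≤ U) [Nontrivial Γ(Y, W)] : rk π W = r := by
  letI := CoverPush.alg π W
  rw [rk, Module.finrank_eq_card_basis (basisAt π hs h), Fintype.card_fin]

theorem nontrivial_of_mem {W : Y.Opens} {y : Y} (hy : y ∈ W) : Nontrivial Γ(Y, W) :=
  (Y.presheaf.germ W y hy).hom.domain_nontrivial

theorem rk_res {W V : Y.Opens} (hg : GoodFree π W) (hV : V ≤ W) {y : Y} (hy : y ∈ V) :
    rk π V = rk π W := by
  obtain ⟨r, U, s, h, hs⟩ := hg
  haveI := nontrivial_of_mem (W := V) hy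
  haveI := nontrivial_of_mem (W := W) (hV hy)
  rw [rk_eq π hs (hV.trans h), rk_eq π hs h]

theorem subsingleton_or (W : Y.Opens) : Subsingleton Γ(Y, W) ∨ ∃ y, y ∈ W := by
  by_cases hW : ∃ y, y ∈ W
  · exact Or.inr hW
  · left
    have : W = ⊥ := Opens.ext (Set.eq_empty_of_forall_notMem fun y hy => hW ⟨y, hy⟩)
    subst this
    exact CommRingCat.subsingleton_of_isTerminal Y.sheaf.isTerminalOfEmpty

theorem isUnit_of_isUnit_norm {V : Y.Opens} (hg : GoodFree π V) (t : Γ(X, π ⁻¹ᵁ V))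
    (hu : letI := CoverPush.alg π V; IsUnit (Algebra.norm Γ(Y, V) t)) : IsUnit t := by
  letI := CoverPush.alg π V
  obtain ⟨r, U, s, hWU, hs⟩ := hg
  let b := basisAt π hs hWU
  haveI : Module.Free Γ(Y, V) Γ(X, π ⁻¹ᵁ V) := Module.Free.of_basis b
  haveI : Module.Finite Γ(Y, V) Γ(X, π ⁻¹ᵁ V) := Module.Finite.of_basis b
  rw [Algebra.norm_apply, ← LinearMap.isUnit_iff_isUnit_det, Module.End.isUnit_iff] at hu
  obtain ⟨v, hv⟩ := hu.2 1
  exact IsUnit.of_mul_eq_one v hv

/-- The norm, raised to an exponent depending on the rank. -/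
noncomputable def freeLoc (E : ℕ → ℕ) (hE : ∀ n, 0 < E n) (hcov : ∀ y : Y, ∃ U, y ∈ U ∧ GoodFree π U)
    [hπ : Surjective π] : LocNorm π where
  good := GoodFree π
  good_mono h := fun ⟨r, U, s, hW, hs⟩ => ⟨r, U, s, h.trans hW, hs⟩
  good_cov := hcov
  loc W _ :=
    letI := CoverPush.alg π W
    (powMonoidHom (E (rk π W))).comp (Algebra.norm Γ(Y, W))
  loc_res {W V} hV hg t := by
    letI := CoverPush.alg π W
    letI := CoverPush.alg π V
    show AModX.resR hV (Algebra.norm Γ(Y, W) t ^ E (rk π W)) = Algebra.norm Γ(Y, V) _ ^ E (rk π V)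
    rcases subsingleton_or V with hsub | ⟨y, hy⟩
    · exact Subsingleton.elim _ _
    rw [map_pow, norm_res π hg hV, rk_res π hg hV hy]
  loc_mem W hg t y hy h hy' := by
    letI := CoverPush.alg π W
    change y ∈ Y.basicOpen (Algebra.norm Γ(Y, W) t ^ E (rk π W)) at hy'
    rw [Y.basicOpen_pow _ (hE _)] at hy'
    let V := Y.basicOpen (Algebra.norm Γ(Y, W) t)
    have hVW : V ≤ W := Y.basicOpen_le _
    letI := CoverPush.alg π V
    have hu : IsUnit (Algebra.norm Γ(Y, V) (AModX.resR (π.preimage_mono hVW) t)) := by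
      rw [← norm_res π hg hVW]
      exact AModX.isUnit_resR _ _ le_rfl
    obtain ⟨r, U, s, hWU, hs⟩ := hg
    have hut : IsUnit (AModX.resR (π.preimage_mono hVW) t) :=
      isUnit_of_isUnit_norm π (V := V) ⟨r, U, s, hVW.trans hWU, hs⟩ _ hu
    obtain ⟨x, rfl⟩ := π.surjective y
    refine h x rfl ?_
    have h1 := X.basicOpen_of_isUnit hut
    rw [show AModX.resR (π.preimage_mono hVW) t = X.presheaf.map (homOfLE (π.preimage_mono hVW)).op t from rfl,
      Scheme.basicOpen_res] at h1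
    have h2 : x ∈ π ⁻¹ᵁ V ⊓ X.basicOpen t := by rw [h1]; exact hy'
    exact h2.2

/-- The norm of a finite locally free morphism with an exponent. -/
noncomputable def freeNorm (E : ℕ → ℕ) (hE : ∀ n, 0 < E n) (hcov : ∀ y : Y, ∃ U, y ∈ U ∧ GoodFree π U)
    [Surjective π] : WNorm π :=
  (freeLoc π E hE hcov).toWNorm

theorem freeNorm_app (E : ℕ → ℕ) (hE : ∀ n, 0 < E n) (hcov : ∀ y : Y, ∃ U, y ∈ U ∧ GoodFree π U)
    [Surjective π] (D : ℕ) (U : Y.Opens)
    (hD : ∀ W : Y.Opens, GoodFree π W → W ≤ U → (∃ y, y ∈ W) → rk π W * E (rk π W) = D) (g : Γ(Y, U)) :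
    (freeNorm π E hE hcov).norm U (π.app U g) = g ^ D := by
  refine (freeLoc π E hE hcov).eq_of_good _ _ fun W hW hg => ?_
  rw [freeNorm, LocNorm.toWNorm_spec _ U _ hW hg, app_resR, map_pow]
  letI := CoverPush.alg π W
  show Algebra.norm Γ(Y, W) (algebraMap Γ(Y, W) Γ(X, π ⁻¹ᵁ W) (AModX.resR hW g)) ^ E (rk π W) = _
  rcases subsingleton_or W with hsub | ⟨y, hy⟩
  · exact Subsingleton.elim _ _
  obtain ⟨r, U', s, hWU, hs⟩ := hg
  haveI := nontrivial_of_mem (W := W) hy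
  rw [Algebra.norm_algebraMap_of_basis (basisAt π hs hWU), ← pow_mul, Fintype.card_fin,
    ← hD W ⟨r, U', s, hWU, hs⟩ hW ⟨y, hy⟩, rk_eq π hs hWU]

/-- A locally free direct image gives bases. -/
theorem goodFree_cov (h : FlatMod.IsFinLocFree ((Coh.push π).obj (Coh.structureModule X))) (y : Y) :
    ∃ U, y ∈ U ∧ GoodFree π U := by
  obtain ⟨U, n, hy, ⟨e⟩⟩ := h y
  obtain ⟨s, hs⟩ := H23.Frame.exists_frame e
  exact ⟨U, hy, n, U, s, le_rfl, fun W hW => hs W hW⟩

theorem rk_pos [Surjective π] {W : Y.Opens} (hg : GoodFree π W) {y : Y} (hy : y ∈ W) : 0 < rk π W := by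
  obtain ⟨r, U, s, hWU, hs⟩ := hg
  haveI := nontrivial_of_mem (W := W) hy
  rw [rk_eq π hs hWU]
  rcases Nat.eq_zero_or_pos r with hr | hr
  swap
  · exact hr
  subst hr
  letI := CoverPush.alg π W
  obtain ⟨x, rfl⟩ := π.surjective y
  have h1 : Nontrivial Γ(X, π ⁻¹ᵁ W) := (X.presheaf.germ (π ⁻¹ᵁ W) x hy).hom.domain_nontrivial
  have h2 : Subsingleton Γ(X, π ⁻¹ᵁ W) := (basisAt π hs hWU).repr.toEquiv.subsingleton
  exact absurd h1 (not_nontrivial_iff_subsingleton.2 h2)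

/-- The exponents making the degree uniform over a quasi-compact open. -/
theorem exists_degree [Surjective π] {B : Y.Opens} (hcov : ∀ y ∈ B, ∃ U, y ∈ U ∧ GoodFree π U)
    (hB : IsCompact (B : Set Y)) : ∃ D : ℕ, 0 < D ∧
      ∀ W : Y.Opens, GoodFree π W → W ≤ B → (∃ y, y ∈ W) → rk π W ∣ D := by
  classical
  choose V hV hVg using fun y : B => hcov y y.2
  obtain ⟨T, hT⟩ := hB.elim_finite_subcover (fun y => (V y : Set Y)) (fun y => (V y).isOpen)
    (fun y hy => Set.mem_iUnion.2 ⟨⟨y, hy⟩, hV ⟨y, hy⟩⟩)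
  refine ⟨∏ y ∈ T, rk π (V y), Finset.prod_pos fun y _ => rk_pos π (hVg y) (hV y), fun W hg hWB ⟨z, hz⟩ => ?_⟩
  obtain ⟨y, hy, hzy⟩ := Set.mem_iUnion₂.1 (hT (hWB hz))
  rw [← rk_res π hg (inf_le_left : W ⊓ V y ≤ W) ⟨hz, hzy⟩,
    rk_res π (hVg y) (inf_le_right : W ⊓ V y ≤ V y) ⟨hz, hzy⟩]
  exact Finset.dvd_prod_of_mem _ hy

/-- The exponent turning a rank into a given degree. -/
def expo (D r : ℕ) : ℕ := if r ∣ D ∧ 0 < D then D / r else 1

theorem expo_pos (D r : ℕ) : 0 < expo D r := by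
  rw [expo]
  split_ifs with h
  · exact Nat.div_pos (Nat.le_of_dvd h.2 h.1) (Nat.pos_of_dvd_of_pos h.1 h.2)
  · exact Nat.one_pos

theorem mul_expo {D r : ℕ} (hD : 0 < D) (h : r ∣ D) : r * expo D r = D := by
  rw [expo, if_pos ⟨h, hD⟩, Nat.mul_div_cancel' h]

end Groth.Agent.NormX
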