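import Groth.Agent.NormX.Basic
import Groth.Prelude.Def_Fitting

/-!
# The norm of the reduction in positive characteristic
-/

universe u

open CategoryTheory AlgebraicGeometry TopologicalSpace

set_option backward.isDefEq.respectTransparency false
set_option backward.isDefEq.respectTransparency.types false

namespace Groth.Agent.NormX

open Groth.Agent

variable {X : Scheme.{u}}

theorem exists_nil_bound [IsNoetherian X] :
    ∃ N : ℕ, ∀ (U : X.Opens) (n : Γ(X, U)), IsNilpotent n → n ^ N = 0 := by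
  classical
  obtain ⟨T, hTfin, hT⟩ : ∃ T : Set X.affineOpens, T.Finite ∧ ∀ x : X, ∃ V ∈ T, x ∈ V.1 := by
    have hc : IsCompact (Set.univ : Set X) := isCompact_univ
    obtain ⟨T, hT⟩ := hc.elim_finite_subcover (fun V : X.affineOpens => (V.1 : Set X)) (fun V => V.1.isOpen)
      (fun x _ => by
        obtain ⟨_, ⟨V, hV, rfl⟩, hxV, -⟩ :=
          X.isBasis_affineOpens.exists_subset_of_mem_open (Set.mem_univ x) isOpen_univ
        exact Set.mem_iUnion.2 ⟨⟨V, hV⟩, hxV⟩)
    exact ⟨T, T.finite_toSet, fun x => by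
      obtain ⟨V, hV, hx⟩ := Set.mem_iUnion₂.1 (hT (Set.mem_univ x))
      exact ⟨V, hV, hx⟩⟩
  have hN : ∀ V : X.affineOpens, ∃ N : ℕ, nilradical Γ(X, V.1) ^ N = 0 := fun V => by
    haveI : IsNoetherianRing Γ(X, V.1) := IsLocallyNoetherian.component_noetherian V
    exact IsNoetherianRing.isNilpotent_nilradical _
  choose N hN using hN
  refine ⟨hTfin.toFinset.sup N, fun U n hn => ?_⟩
  let W : U → X.Opens := fun x =>
    X.basicOpen ((hT x.1).choose.2.exists_basicOpen_le (V := U ⊓ (hT x.1).choose.1)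
      ⟨x.1, x.2, (hT x.1).choose_spec.2⟩ (hT x.1).choose_spec.2).choose
  have hW : ∀ x, W x ≤ U ⊓ (hT x.1).choose.1 ∧ x.1 ∈ W x := fun x =>
    ((hT x.1).choose.2.exists_basicOpen_le (V := U ⊓ (hT x.1).choose.1)
      ⟨x.1, x.2, (hT x.1).choose_spec.2⟩ (hT x.1).choose_spec.2).choose_spec
  refine X.sheaf.eq_of_locally_eq' W U (fun x => homOfLE ((hW x).1.trans inf_le_left))
    (fun x hx => Opens.mem_iSup.2 ⟨⟨x, hx⟩, (hW _).2⟩) _ _ fun x => ?_
  show AModX.resR ((hW x).1.trans inf_le_left) (n ^ _) = AModX.resR ((hW x).1.trans inf_le_left) 0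
  rw [map_pow, map_zero]
  set V := (hT x.1).choose with hVdef
  have hVT : V ∈ T := (hT x.1).choose_spec.1
  set f := (V.2.exists_basicOpen_le (V := U ⊓ V.1)
    ⟨x.1, x.2, (hT x.1).choose_spec.2⟩ (hT x.1).choose_spec.2).choose
  set m := AModX.resR ((hW x).1.trans inf_le_left) n
  haveI : IsLocalization.Away f Γ(X, W x) := V.2.isLocalization_basicOpen f
  obtain ⟨⟨a, s⟩, has⟩ := IsLocalization.surj (Submonoid.powers f) m
  have hm : IsNilpotent m := hn.map _
  obtain ⟨k, hk⟩ : IsNilpotent (algebraMap Γ(X, V.1) Γ(X, W x) a) := by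
    rw [show algebraMap Γ(X, V.1) Γ(X, W x) a = m * algebraMap Γ(X, V.1) Γ(X, W x) s from has.symm]
    exact (Commute.all _ _).isNilpotent_mul_right hm
  rw [← map_pow, IsLocalization.map_eq_zero_iff (Submonoid.powers f)] at hk
  obtain ⟨t, ht⟩ := hk
  have hta : (t : Γ(X, V.1)) * a ∈ nilradical Γ(X, V.1) := by
    refine ⟨k + 1, ?_⟩
    rw [mul_pow, pow_succ (t : Γ(X, V.1)), pow_succ a,
      show (t : Γ(X, V.1)) ^ k * t * (a ^ k * a) = (t : Γ(X, V.1)) ^ k * a * ((t : Γ(X, V.1)) * a ^ k) by ring,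
      ht, mul_zero]
    exact Submodule.zero_mem _
  have h1 : ((t : Γ(X, V.1)) * a) ^ hTfin.toFinset.sup N = 0 := by
    have h2 := Ideal.pow_le_pow_right (Finset.le_sup (f := N) (hTfin.mem_toFinset.2 hVT))
      (Ideal.pow_mem_pow hta (hTfin.toFinset.sup N))
    rw [hN V] at h2
    exact h2
  have h3 := congrArg (algebraMap Γ(X, V.1) Γ(X, W x)) h1
  rw [map_pow, map_mul, map_zero, show algebraMap Γ(X, V.1) Γ(X, W x) a =
    m * algebraMap Γ(X, V.1) Γ(X, W x) s from has.symm, mul_left_comm, mul_pow] at h3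
  have hu : IsUnit ((algebraMap Γ(X, V.1) Γ(X, W x) t * algebraMap Γ(X, V.1) Γ(X, W x) s) ^
      hTfin.toFinset.sup N) :=
    ((IsLocalization.map_units Γ(X, W x) t).mul (IsLocalization.map_units Γ(X, W x) s)).pow _
  exact hu.mul_left_eq_zero.1 h3

theorem hasNorm_reduction (X : Scheme.{u}) [IsNoetherian X] (p : ℕ) (hp : p.Prime) (hpX : (p : Γ(X, ⊤)) = 0) :
    ∃ e : ℕ, 0 < e ∧ Nrm.HasNorm X.nilradical.subschemeι (p ^ e) := by
  obtain ⟨N, hN⟩ := exists_nil_bound (X := X)
  refine ⟨N + 1, N.succ_pos, ?_⟩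
  let q := p ^ (N + 1)
  have hNq : N ≤ q := le_trans (Nat.le_succ N) (Nat.lt_pow_self hp.one_lt).le
  set π := X.nilradical.subschemeι
  have hpU : ∀ U : X.Opens, (p : Γ(X, U)) = 0 := fun U => by
    have := congrArg (AModX.resR (le_top : U ≤ ⊤)) hpX
    rwa [map_natCast, map_zero] at this
  have hker : ∀ (V : X.affineOpens) (n : Γ(X, V.1)), π.app V.1 n = 0 → IsNilpotent n := fun V n h => by
    have h1 : n ∈ RingHom.ker (π.app V.1).hom := h
    rw [Scheme.IdealSheafData.ker_subschemeι_app, Scheme.nilradical, Scheme.IdealSheafData.radical_ideal,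
      Scheme.IdealSheafData.ideal_bot] at h1
    exact h1
  have hlift : ∀ (V : X.affineOpens) (a a' : Γ(X, V.1)), π.app V.1 a = π.app V.1 a' → a ^ q = a' ^ q := by
    intro V a a' h
    have hn := hN _ _ (hker V (a - a') (by rw [map_sub, h, sub_self]))
    obtain ⟨r, hr⟩ := exists_add_pow_prime_pow_eq hp (a - a') a' (N + 1)
    rw [sub_add_cancel, hpU, zero_mul, zero_mul, zero_mul, add_zero, pow_eq_zero_of_le hNq hn, zero_add] at hr
    exact hr
  let P : ∀ U : X.Opens, Γ(X.nilradical.subscheme, π ⁻¹ᵁ U) → Γ(X, U) → Prop := fun U s b =>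
    ∀ (V : X.affineOpens) (h : V.1 ≤ U) (a : Γ(X, V.1)),
      π.app V.1 a = AModX.resR (π.preimage_mono h) s → AModX.resR h b = a ^ q
  have hres : ∀ (U V : X.Opens) (h : V ≤ U) (a : Γ(X, U)),
      AModX.resR (π.preimage_mono h) (π.app U a) = π.app V (AModX.resR h a) := fun U V h a =>
    (ConcreteCategory.congr_hom (π.naturality (homOfLE h).op) a).symm
  have huniq : ∀ U s (b b' : Γ(X, U)), P U s b → P U s b' → b = b' := fun U s b b' hb hb' => by
    choose V hV hxV hVU using fun x : U =>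
      X.isBasis_affineOpens.exists_subset_of_mem_open (show x.1 ∈ U from x.2) U.isOpen
    choose V' hV'a hV' using hV
    refine X.sheaf.eq_of_locally_eq' V' U (fun x => homOfLE (by intro y hy; exact hVU x (hV' x ▸ hy)))
      (fun x hx => Opens.mem_iSup.2 ⟨⟨x, hx⟩, by have := hxV ⟨x, hx⟩; rw [← hV' ⟨x, hx⟩] at this; exact this⟩)
      _ _ fun x => ?_
    obtain ⟨a, ha⟩ := π.app_surjective (V' x) (hV'a x) (AModX.resR (π.preimage_mono
      (by intro y hy; exact hVU x (hV' x ▸ hy))) s)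
    exact (hb ⟨V' x, hV'a x⟩ _ a ha).trans (hb' ⟨V' x, hV'a x⟩ _ a ha).symm
  have hex : ∀ U s, ∃ b, P U s b := fun U s => by
    choose V hV hxV hVU using fun x : U =>
      X.isBasis_affineOpens.exists_subset_of_mem_open (show x.1 ∈ U from x.2) U.isOpen
    choose V' hV'a hV' using hV
    have hle : ∀ x, V' x ≤ U := fun x y hy => hVU x (hV' x ▸ hy)
    choose a ha using fun x => π.app_surjective (V' x) (hV'a x) (AModX.resR (π.preimage_mono (hle x)) s)
    have key : ∀ (x : U) (W : X.affineOpens) (h : W.1 ≤ V' x) (a' : Γ(X, W.1)),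
        π.app W.1 a' = AModX.resR (π.preimage_mono (h.trans (hle x))) s → AModX.resR h (a x) ^ q = a' ^ q :=
      fun x W h a' ha' => hlift W _ _ (by rw [← hres, ha x, AModX.resR_resR, ha'])
    obtain ⟨b, hb, -⟩ := TopCat.Sheaf.existsUnique_gluing' X.sheaf V' U (fun x => homOfLE (hle x))
      (fun x hx => Opens.mem_iSup.2 ⟨⟨x, hx⟩, by have := hxV ⟨x, hx⟩; rw [← hV' ⟨x, hx⟩] at this; exact this⟩)
      (fun x => a x ^ q) (fun x y => by
        show AModX.resR (inf_le_left : V' x ⊓ V' y ≤ V' x) _ = AModX.resR inf_le_right _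
        choose T hT hzT hTle using fun z : (V' x ⊓ V' y : X.Opens) =>
          X.isBasis_affineOpens.exists_subset_of_mem_open (show z.1 ∈ V' x ⊓ V' y from z.2) (V' x ⊓ V' y).isOpen
        choose T' hT'a hT' using hT
        have hle' : ∀ z, T' z ≤ V' x ⊓ V' y := fun z w hw => hTle z (hT' z ▸ hw)
        refine X.sheaf.eq_of_locally_eq' T' _ (fun z => homOfLE (hle' z))
          (fun z hz => Opens.mem_iSup.2 ⟨⟨z, hz⟩, by
            have := hzT ⟨z, hz⟩; rw [← hT' ⟨z, hz⟩] at this; exact this⟩) _ _ fun z => ?_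
        show AModX.resR (hle' z) _ = AModX.resR (hle' z) _
        rw [AModX.resR_resR, AModX.resR_resR, map_pow, map_pow]
        refine key x ⟨T' z, hT'a z⟩ _ _ ?_
        rw [← hres, ha y, AModX.resR_resR])
    refine ⟨b, fun W h a' ha' => ?_⟩
    choose T hT hzT hTle using fun z : W.1 =>
      X.isBasis_affineOpens.exists_subset_of_mem_open
        (show z.1 ∈ W.1 ⊓ V' ⟨z.1, h z.2⟩ from ⟨z.2, by
          have := hxV ⟨z.1, h z.2⟩; rw [← hV' ⟨z.1, h z.2⟩] at this; exact this⟩)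
        (W.1 ⊓ V' ⟨z.1, h z.2⟩).isOpen
    choose T' hT'a hT' using hT
    have hle' : ∀ z, T' z ≤ W.1 ⊓ V' ⟨z.1, h z.2⟩ := fun z w hw => hTle z (hT' z ▸ hw)
    refine X.sheaf.eq_of_locally_eq' T' _ (fun z => homOfLE ((hle' z).trans inf_le_left))
      (fun z hz => Opens.mem_iSup.2 ⟨⟨z, hz⟩, by
        have := hzT ⟨z, hz⟩; rw [← hT' ⟨z, hz⟩] at this; exact this⟩) _ _ fun z => ?_
    show AModX.resR _ (AModX.resR h b) = AModX.resR _ _
    rw [AModX.resR_resR, ← AModX.resR_resR (hle ⟨z.1, h z.2⟩) ((hle' z).trans inf_le_right),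
      show AModX.resR (hle ⟨z.1, h z.2⟩) b = a ⟨z.1, h z.2⟩ ^ q from hb _, map_pow, map_pow]
    refine key _ ⟨T' z, hT'a z⟩ ((hle' z).trans inf_le_right) _ ?_
    rw [← hres, ha', AModX.resR_resR]
  choose nm hnm using hex
  refine ⟨{
    one_le := Nat.one_le_pow _ _ hp.pos
    norm := fun U =>
      { toFun := nm U
        map_one' := huniq U 1 _ _ (hnm U 1) fun V h a ha => by
          rw [map_one] at ha ⊢
          exact ((hlift V a 1 (by rw [ha, map_one])).trans (one_pow q)).symm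
        map_mul' := fun s t => huniq U (s * t) _ _ (hnm U _) fun V h a ha => by
          obtain ⟨as, has⟩ := π.app_surjective V.1 V.2 (AModX.resR (π.preimage_mono h) s)
          obtain ⟨at', hat⟩ := π.app_surjective V.1 V.2 (AModX.resR (π.preimage_mono h) t)
          rw [map_mul, hnm U s V h as has, hnm U t V h at' hat, ← mul_pow]
          exact hlift V _ a (by rw [map_mul, has, hat, ha, map_mul]) }
    norm_res := fun {U V} i s => huniq V _ _ _ (fun W h a ha => ?_) (hnm V _)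
    norm_app := fun U g => huniq U _ _ _ (hnm U _) fun V h a ha => ?_
    norm_mem := ?_ }⟩
  · show AModX.resR h (AModX.resR i.le (nm U s)) = _
    rw [AModX.resR_resR]
    refine hnm U s W (h.trans i.le) a ?_
    rw [ha]
    exact AModX.resR_resR _ _ _
  · rw [map_pow]
    exact (hlift V a _ (by rw [ha, hres])).symm
  · intro U s x hx hmem
    rw [← not_not (a := _ ∈ IsLocalRing.maximalIdeal _), IsLocalRing.notMem_maximalIdeal,
      ← Scheme.mem_basicOpen X _ (π x) hx]
    intro hy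
    obtain ⟨_, ⟨V, hV, rfl⟩, hxV, hVU⟩ := X.isBasis_affineOpens.exists_subset_of_mem_open hx U.isOpen
    obtain ⟨a, ha⟩ := π.app_surjective V hV (AModX.resR (π.preimage_mono (show V ≤ U from hVU)) s)
    change π x ∈ X.basicOpen (nm U s) at hy
    have h1 : π x ∈ X.basicOpen (AModX.resR (show V ≤ U from hVU) (nm U s)) := by
      rw [show AModX.resR (show V ≤ U from hVU) (nm U s) =
        X.presheaf.map (homOfLE (show V ≤ U from hVU)).op (nm U s) from rfl, Scheme.basicOpen_res]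
      exact ⟨hxV, hy⟩
    rw [hnm U s ⟨V, hV⟩ _ a ha, X.basicOpen_pow _ (Nat.pow_pos hp.pos)] at h1
    have h2 : x ∈ π ⁻¹ᵁ X.basicOpen a := h1
    rw [Scheme.preimage_basicOpen, ha,
      show AModX.resR (π.preimage_mono (show V ≤ U from hVU)) s =
        X.nilradical.subscheme.presheaf.map (homOfLE (π.preimage_mono (show V ≤ U from hVU))).op s from rfl,
      Scheme.basicOpen_res] at h2
    exact IsLocalRing.notMem_maximalIdeal.2 ((Scheme.mem_basicOpen _ s x hx).1 h2.2) hmem

end Groth.Agent.NormX
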