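import Groth.Agent.NormX.Free
import Groth.Agent.NormX.Alg

/-!
# Norms of finite morphisms to reduced schemes which are free or normal at each point
-/

universe u

open CategoryTheory AlgebraicGeometry TopologicalSpace Polynomial

set_option backward.isDefEq.respectTransparency false
set_option backward.isDefEq.respectTransparency.types false

namespace Groth.Agent.NormX

open Groth.Agent Groth.Agent.H23

variable {X Y : Scheme.{u}}

/-- An integrally closed local ring with an integral neighbourhood. -/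
def NormalAt (Y : Scheme.{u}) (y : Y) : Prop :=
  IsIntegrallyClosed (Y.presheaf.stalk y) ∧ ∃ W : Y.Opens, y ∈ W ∧ IsIntegral (W : Scheme.{u})

theorem isDomain_of_le {W W' : Y.Opens} (hW : IsIntegral (W : Scheme.{u})) (h : W' ≤ W) {y : Y} (hy : y ∈ W') :
    IsDomain Γ(Y, W') := by
  obtain ⟨V, rfl⟩ : ∃ V, W.ι ''ᵁ V = W' := ⟨W.ι ⁻¹ᵁ W', by
    rw [Scheme.Hom.image_preimage_eq_opensRange_inf, Scheme.Opens.opensRange_ι]; exact inf_eq_right.2 h⟩
  obtain ⟨z, hz, rfl⟩ := hy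
  haveI : Nonempty V := ⟨⟨z, hz⟩⟩
  exact (W.ι.appIso V).commRingCatIsoToRingEquiv.symm.toMulEquiv.isDomain_iff.1
    (IsIntegral.component_integral V)

theorem inter_nonempty {W : Y.Opens} (hW : IsIntegral (W : Scheme.{u})) {U V : Y.Opens} (hU : U ≤ W) (hV : V ≤ W)
    (hUn : ∃ y, y ∈ U) (hVn : ∃ y, y ∈ V) : ∃ y, y ∈ U ∧ y ∈ V := by
  obtain ⟨a, ha⟩ := hUn
  obtain ⟨b, hb⟩ := hVn
  obtain ⟨z, hz₁, hz₂⟩ := nonempty_preirreducible_inter (W.ι ⁻¹ᵁ U).isOpen (W.ι ⁻¹ᵁ V).isOpen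
    ⟨⟨a, hU ha⟩, ha⟩ ⟨⟨b, hV hb⟩, hb⟩
  exact ⟨_, hz₁, hz₂⟩

/-- Sections of a reduced scheme agree if they do on an open meeting every nonempty open. -/
theorem eq_of_dense [IsReduced Y] {V : Y.Opens} (a b : Γ(Y, V))
    (h : ∀ U : Y.Opens, U ≤ V → (∃ y, y ∈ U) → ∃ (U' : Y.Opens) (hU' : U' ≤ V), (∃ y, y ∈ U' ∧ y ∈ U) ∧
      AModX.resR hU' a = AModX.resR hU' b) : a = b := by
  rw [← sub_eq_zero]
  apply eq_zero_of_basicOpen_eq_bot
  by_contra hne
  obtain ⟨U', hU', ⟨y, hy', hy⟩, e⟩ := h (Y.basicOpen (a - b)) (Y.basicOpen_le _) (by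
    by_contra hc
    exact hne (Opens.ext (Set.eq_empty_of_forall_notMem fun y hy => hc ⟨y, hy⟩)))
  have h1 : AModX.resR hU' (a - b) = 0 := by rw [map_sub, e, sub_self]
  have h2 := congrArg Y.basicOpen h1
  rw [Scheme.basicOpen_zero, show AModX.resR hU' (a - b) = Y.presheaf.map (homOfLE hU').op (a - b) from rfl,
    Scheme.basicOpen_res] at h2
  have h3 : y ∈ (⊥ : Y.Opens) := by rw [← h2]; exact ⟨hy', hy⟩
  exact h3

variable (π : X ⟶ Y)

/-- The norm with exponent over an open. -/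
noncomputable def locF (E : ℕ → ℕ) (V : Y.Opens) : Γ(X, π ⁻¹ᵁ V) →* Γ(Y, V) :=
  letI := CoverPush.alg π V
  (powMonoidHom (E (rk π V))).comp (Algebra.norm Γ(Y, V))

variable {E : ℕ → ℕ}

theorem locF_res {W V : Y.Opens} (hg : GoodFree π W) (hV : V ≤ W) (t : Γ(X, π ⁻¹ᵁ W)) :
    AModX.resR hV (locF π E W t) = locF π E V (AModX.resR (π.preimage_mono hV) t) := by
  letI := CoverPush.alg π W
  letI := CoverPush.alg π V
  show AModX.resR hV (Algebra.norm Γ(Y, W) t ^ E (rk π W)) = Algebra.norm Γ(Y, V) _ ^ E (rk π V)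
  rcases subsingleton_or V with hsub | ⟨y, hy⟩
  · exact Subsingleton.elim _ _
  rw [map_pow, norm_res π hg hV, rk_res π hg hV hy]

theorem mem_basicOpen_of_locF (hE : ∀ n, 0 < E n) {W : Y.Opens} (hg : GoodFree π W) (t : Γ(X, π ⁻¹ᵁ W)) {x : X}
    (hy : π x ∈ Y.basicOpen (locF π E W t)) : x ∈ X.basicOpen t := by
  letI := CoverPush.alg π W
  change π x ∈ Y.basicOpen (Algebra.norm Γ(Y, W) t ^ E (rk π W)) at hy
  rw [Y.basicOpen_pow _ (hE _)] at hy
  let V := Y.basicOpen (Algebra.norm Γ(Y, W) t)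
  have hVW : V ≤ W := Y.basicOpen_le _
  letI := CoverPush.alg π V
  have hu : IsUnit (Algebra.norm Γ(Y, V) (AModX.resR (π.preimage_mono hVW) t)) := by
    rw [← norm_res π hg hVW]
    exact AModX.isUnit_resR _ _ le_rfl
  obtain ⟨r, U, s, hWU, hs⟩ := hg
  have h1 := X.basicOpen_of_isUnit
    (isUnit_of_isUnit_norm π (V := V) ⟨r, U, s, hVW.trans hWU, hs⟩ _ hu)
  rw [show AModX.resR (π.preimage_mono hVW) t = X.presheaf.map (homOfLE (π.preimage_mono hVW)).op t from rfl,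
    Scheme.basicOpen_res] at h1
  have h2 : x ∈ π ⁻¹ᵁ V ⊓ X.basicOpen t := by rw [h1]; exact hy
  exact h2.2

/-- The extension of the norm. -/
def IsExt (E : ℕ → ℕ) {W : Y.Opens} (t : Γ(X, π ⁻¹ᵁ W)) (b : Γ(Y, W)) : Prop :=
  ∀ (V : Y.Opens) (h : V ≤ W), GoodFree π V →
    AModX.resR h b = locF π E V (AModX.resR (π.preimage_mono h) t)

theorem IsExt.res {W W' : Y.Opens} {t : Γ(X, π ⁻¹ᵁ W)} {b : Γ(Y, W)} (hb : IsExt π E t b) (h : W' ≤ W) :
    IsExt π E (AModX.resR (π.preimage_mono h) t) (AModX.resR h b) := fun V hV hg => by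
  rw [AModX.resR_resR, AModX.resR_resR]
  exact hb V _ hg

theorem IsExt.unique [IsReduced Y]
    (hdense : ∀ U : Y.Opens, (∃ y, y ∈ U) → ∃ V ≤ U, (∃ y, y ∈ V) ∧ GoodFree π V)
    {W : Y.Opens} {t : Γ(X, π ⁻¹ᵁ W)} {b b' : Γ(Y, W)}
    (hb : IsExt π E t b) (hb' : IsExt π E t b') : b = b' := by
  refine eq_of_dense b b' fun U hU hne => ?_
  obtain ⟨V, hVU, ⟨y, hy⟩, hg⟩ := hdense U hne
  exact ⟨V, hVU.trans hU, ⟨y, hy, hVU hy⟩, (hb V _ hg).trans (hb' V _ hg).symm⟩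

/-- The norm extends near a point where the direct image is free. -/
theorem exists_ext_free (hE : ∀ n, 0 < E n) {U : Y.Opens} (hg : GoodFree π U) {W₀ : Y.Opens}
    (t : Γ(X, π ⁻¹ᵁ W₀)) {y : Y} (hy : y ∈ W₀) (hyU : y ∈ U) :
    ∃ (W : Y.Opens) (h : W ≤ W₀) (b : Γ(Y, W)), y ∈ W ∧
      IsExt π E (AModX.resR (π.preimage_mono h) t) b ∧
      ∀ x : X, π x = y → y ∈ Y.basicOpen b → x ∈ X.basicOpen t := by
  have hgW : GoodFree π (W₀ ⊓ U) := by
    obtain ⟨r, U', s, h, hs⟩ := hg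
    exact ⟨r, U', s, inf_le_right.trans h, hs⟩
  refine ⟨W₀ ⊓ U, inf_le_left, locF π E _ (AModX.resR (π.preimage_mono inf_le_left) t), ⟨hy, hyU⟩,
    fun V hV hgV => locF_res π hgW hV _, fun x hx hb => ?_⟩
  have h1 := mem_basicOpen_of_locF π hE hgW _ (x := x) (by rw [hx]; exact hb)
  rw [show AModX.resR (π.preimage_mono (inf_le_left : W₀ ⊓ U ≤ W₀)) t =
    X.presheaf.map (homOfLE (π.preimage_mono (inf_le_left : W₀ ⊓ U ≤ W₀))).op t from rfl,
    Scheme.basicOpen_res] at h1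
  exact h1.2

variable [IsFinite π]

/-- The norm extends near a normal point. -/
theorem exists_ext_normal [IsReduced Y] [Surjective π] (hE : ∀ n, 0 < E n)
    (hdense : ∀ U : Y.Opens, (∃ y, y ∈ U) → ∃ V ≤ U, (∃ y, y ∈ V) ∧ GoodFree π V)
    {y : Y} (hn : NormalAt Y y) {W₀ : Y.Opens} (t : Γ(X, π ⁻¹ᵁ W₀)) (hy : y ∈ W₀) :
    ∃ (W : Y.Opens) (h : W ≤ W₀) (b : Γ(Y, W)), y ∈ W ∧
      IsExt π E (AModX.resR (π.preimage_mono h) t) b ∧
      (y ∈ Y.basicOpen b → ∃ x : X, π x = y ∧ x ∈ X.basicOpen t) ∧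
      (IsIntegral X → ∀ x : X, π x = y → y ∈ Y.basicOpen b → x ∈ X.basicOpen t) := by
  obtain ⟨hnorm, W₁, hyW₁, hint⟩ := hn
  obtain ⟨_, ⟨W', hW', rfl⟩, hyW', hW'le⟩ :=
    Y.isBasis_affineOpens.exists_subset_of_mem_open (show y ∈ W₀ ⊓ W₁ from ⟨hy, hyW₁⟩) (W₀ ⊓ W₁).isOpen
  have hW'0 : W' ≤ W₀ := fun z hz => (hW'le hz).1
  have hW'1 : W' ≤ W₁ := fun z hz => (hW'le hz).2
  haveI := isDomain_of_le hint hW'1 hyW'
  obtain ⟨V₀, hV₀, ⟨z, hz⟩, hgV₀⟩ := hdense W' ⟨y, hyW'⟩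
  obtain ⟨f, hfV₀, hzf⟩ := hW'.exists_basicOpen_le (V := V₀) ⟨z, hz⟩ (hV₀ hz)
  let Df := Y.basicOpen f
  have hDf : Df ≤ W' := Y.basicOpen_le f
  have hgf : GoodFree π Df := by
    obtain ⟨r, U, s, h, hs⟩ := hgV₀
    exact ⟨r, U, s, hfV₀.trans h, hs⟩
  have hf0 : f ≠ 0 := by
    rintro rfl
    rw [Scheme.basicOpen_zero] at hzf
    exact hzf
  obtain ⟨r, U, s, hDU, hs⟩ := hgf
  let A := Γ(Y, W')
  let Af := Γ(Y, Df)
  let B := Γ(X, π ⁻¹ᵁ W')
  let Bf := Γ(X, π ⁻¹ᵁ Df)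
  letI algB : Algebra A B := CoverPush.alg π W'
  letI algBf : Algebra Af Bf := CoverPush.alg π Df
  letI algAf : Algebra A Af := (AModX.resR hDf).toAlgebra
  haveI : IsLocalization.Away f Af := hW'.isLocalization_basicOpen f
  haveI : Module.Finite A B := π.finite_app W' hW'
  haveI := nontrivial_of_mem (W := Df) hzf
  let K := FractionRing A
  have hfu : IsUnit (algebraMap A K f) := by
    rw [isUnit_iff_ne_zero]
    simpa using hf0
  let ρ : Af →+* K := IsLocalization.Away.lift f hfu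
  have hρ : ∀ a : A, ρ (AModX.resR hDf a) = algebraMap A K a := fun a => IsLocalization.Away.lift_eq f hfu a
  have hρinj : Function.Injective ρ := by
    refine (IsLocalization.lift_injective_iff _).2 fun a b => ⟨fun h => ?_, fun h => ?_⟩
    · exact congrArg (algebraMap A K) (IsLocalization.injective Af
        (powers_le_nonZeroDivisors_of_noZeroDivisors hf0) h)
    · exact congrArg (algebraMap A Af) (IsFractionRing.injective A K h)
  let t' : B := AModX.resR (π.preimage_mono hW'0) t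
  let tf : Bf := AModX.resR (π.preimage_mono hDf) t'
  let bas := basisAt π hs hDU
  have hr : 0 < r := by
    have h1 := rk_pos π (W := Df) ⟨r, U, s, hDU, hs⟩ hzf
    rwa [rk_eq π hs hDU] at h1
  haveI : Nonempty (Fin r) := ⟨⟨0, hr⟩⟩
  let M₀ := Algebra.leftMulMatrix bas tf
  let M : Matrix (Fin r) (Fin r) K := M₀.map ρ
  have hdet : M.det = ρ (Algebra.norm Af tf) := by
    rw [Algebra.norm_eq_matrix_det bas, RingHom.map_det]
    rfl
  let Φ : B →+* Matrix (Fin r) (Fin r) K :=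
    (ρ.mapMatrix.comp (Algebra.leftMulMatrix bas).toRingHom).comp (AModX.resR (π.preimage_mono hDf))
  have hΦ : ∀ a : A, Φ (algebraMap A B a) = algebraMap A (Matrix (Fin r) (Fin r) K) a := fun a => by
    show ρ.mapMatrix (Algebra.leftMulMatrix bas (AModX.resR (π.preimage_mono hDf) (π.app W' a))) = _
    rw [app_resR]
    show ρ.mapMatrix (Algebra.leftMulMatrix bas (algebraMap Af Bf (AModX.resR hDf a))) = _
    rw [AlgHom.commutes, Matrix.algebraMap_eq_diagonal, Matrix.algebraMap_eq_diagonal, RingHom.mapMatrix_apply,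
      Matrix.diagonal_map (map_zero ρ)]
    refine congrArg Matrix.diagonal (funext fun i => ?_)
    exact hρ a
  let p : Ideal A := (hW'.primeIdealOf ⟨y, hyW'⟩).asIdeal
  letI : Algebra A (Y.presheaf.stalk y) := (Y.presheaf.germ W' y hyW').hom.toAlgebra
  haveI : IsLocalization.AtPrime (Y.presheaf.stalk y) p := hW'.isLocalization_stalk ⟨y, hyW'⟩
  haveI : IsIntegrallyClosed (Localization.AtPrime p) :=
    IsIntegrallyClosed.of_equiv
      (IsLocalization.algEquiv p.primeCompl (Y.presheaf.stalk y) (Localization.AtPrime p)).toRingEquiv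
  have hmem : ∀ c : A, c ∈ p ↔ ¬ y ∈ Y.basicOpen c := fun c => by
    rw [QCoh.mem_basicOpen_iff_notMem hW' hyW' c, not_not]
  obtain ⟨a, c, hc, hac, hzero⟩ := det_core K Φ hΦ p t'
  have hac' : M.det * algebraMap A K c = algebraMap A K a := hac
  have hcy : y ∈ Y.basicOpen c := by
    by_contra h
    exact hc ((hmem c).2 h)
  let W := Y.basicOpen c
  have hW : W ≤ W' := Y.basicOpen_le _
  have hcu : IsUnit (AModX.resR hW c) := AModX.isUnit_resR _ _ le_rfl
  let b : Γ(Y, W) := (AModX.resR hW a * ((hcu.unit⁻¹ : (Γ(Y, W))ˣ) : Γ(Y, W))) ^ E (rk π Df)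
  refine ⟨W, hW.trans hW'0, b, hcy, fun V hV hgV => ?_, ?_⟩
  · refine eq_of_dense _ _ fun U₂ hU₂ hne => ?_
    obtain ⟨w, hwU, hwD⟩ :=
      inter_nonempty hint ((hU₂.trans hV).trans (hW.trans hW'1)) (hDf.trans hW'1) hne ⟨z, hzf⟩
    refine ⟨V ⊓ Df, inf_le_left, ⟨w, ⟨hU₂ hwU, hwD⟩, hwU⟩, ?_⟩
    rw [locF_res π hgV, AModX.resR_resR, AModX.resR_resR, AModX.resR_resR,
      show AModX.resR (π.preimage_mono ((inf_le_left : V ⊓ Df ≤ V).trans (hV.trans (hW.trans hW'0)))) t =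
        AModX.resR (π.preimage_mono (inf_le_right : V ⊓ Df ≤ Df)) tf from
        ((AModX.resR_resR _ _ _).trans (AModX.resR_resR _ _ _)).symm,
      ← locF_res π (W := Df) ⟨r, U, s, hDU, hs⟩ (inf_le_right : V ⊓ Df ≤ Df)]
    have key : AModX.resR hDf c * Algebra.norm Af tf = AModX.resR hDf a := by
      apply hρinj
      rw [map_mul, hρ, hρ, ← hdet, mul_comm, hac']
    have key' := congrArg (AModX.resR (inf_le_right : V ⊓ Df ≤ Df)) key
    rw [map_mul, AModX.resR_resR, AModX.resR_resR] at key'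
    show AModX.resR _ b = AModX.resR _ (Algebra.norm Af tf ^ E (rk π Df))
    rw [show b = _ ^ E (rk π Df) from rfl, map_pow, map_pow]
    congr 1
    have hle : V ⊓ Df ≤ W := inf_le_left.trans hV
    have hcu' : IsUnit (AModX.resR (hle.trans hW) c) := by
      rw [← AModX.resR_resR hW hle]
      exact hcu.map _
    refine hcu'.mul_left_cancel ?_
    rw [key', map_mul, AModX.resR_resR, ← AModX.resR_resR hW hle c,
      mul_left_comm, ← map_mul (AModX.resR hle), IsUnit.mul_val_inv, map_one, mul_one]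
  have hap : y ∈ Y.basicOpen b → a ∉ p := fun hyb hap => by
    rw [Y.basicOpen_pow _ (hE _), Scheme.basicOpen_mul,
      show AModX.resR hW a = Y.presheaf.map (homOfLE hW).op a from rfl, Scheme.basicOpen_res] at hyb
    exact (hmem a).1 hap hyb.1.2
  -- points over `y` and primes over `p`
  have hpt : ∀ x : X, ∀ hx : x ∈ π ⁻¹ᵁ W',
      π x = y ↔ ((hW'.preimage π).primeIdealOf ⟨x, hx⟩).asIdeal.comap (algebraMap A B) = p := fun x hx => by
    have hkey : ∀ c' : A, c' ∈ ((hW'.preimage π).primeIdealOf ⟨x, hx⟩).asIdeal.comap (algebraMap A B) ↔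
        c' ∈ (hW'.primeIdealOf ⟨π x, hx⟩).asIdeal := fun c' => by
      have h1 := QCoh.mem_basicOpen_iff_notMem (hW'.preimage π) hx (π.app W' c')
      rw [← Scheme.preimage_basicOpen] at h1
      exact not_iff_not.1 (h1.symm.trans (QCoh.mem_basicOpen_iff_notMem hW' hx c'))
    constructor
    · intro e
      subst e
      exact Ideal.ext hkey
    · intro e
      have h1 := hW'.fromSpec_primeIdealOf ⟨π x, hx⟩
      rw [show hW'.primeIdealOf ⟨π x, hx⟩ = hW'.primeIdealOf ⟨y, hyW'⟩ from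
        PrimeSpectrum.ext ((Ideal.ext hkey).symm.trans e), hW'.fromSpec_primeIdealOf] at h1
      exact h1.symm
  refine ⟨fun hyb => ?_, fun hX x hx hyb => ?_⟩
  · obtain ⟨q, hq, hqp, htq⟩ := (hzero (hap hyb)).1
    let x : X := (hW'.preimage π).fromSpec ⟨q, hq⟩
    have hxW : x ∈ π ⁻¹ᵁ W' := (hW'.preimage π).opensRange_fromSpec.le ⟨_, rfl⟩
    have hprime : (hW'.preimage π).primeIdealOf ⟨x, hxW⟩ = ⟨q, hq⟩ :=
      (hW'.preimage π).fromSpec.isOpenEmbedding.injective ((hW'.preimage π).fromSpec_primeIdealOf ⟨x, hxW⟩)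
    refine ⟨x, (hpt x hxW).2 (by rw [hprime]; exact hqp), ?_⟩
    have h2 : x ∈ X.basicOpen t' := (QCoh.mem_basicOpen_iff_notMem (hW'.preimage π) hxW t').2 (by
      rw [hprime]; exact htq)
    rw [show t' = X.presheaf.map (homOfLE (π.preimage_mono hW'0)).op t from rfl, Scheme.basicOpen_res] at h2
    exact h2.2
  · obtain ⟨x₀, hx₀⟩ := π.surjective z
    haveI : Nonempty (π ⁻¹ᵁ Df : X.Opens) := ⟨⟨x₀, show π x₀ ∈ Df by rw [hx₀]; exact hzf⟩⟩
    have hinj : Function.Injective Φ := fun u v huv =>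
      map_injective_of_isIntegral X (homOfLE (π.preimage_mono hDf))
        (Algebra.leftMulMatrix_injective bas (Matrix.map_injective hρinj huv))
    have hxW : x ∈ π ⁻¹ᵁ W' := show π x ∈ W' by rw [hx]; exact hyW'
    have h2 := (QCoh.mem_basicOpen_iff_notMem (hW'.preimage π) hxW t').2
      ((hzero (hap hyb)).2 hinj _ ((hW'.preimage π).primeIdealOf ⟨x, hxW⟩).isPrime ((hpt x hxW).1 hx))
    rw [show t' = X.presheaf.map (homOfLE (π.preimage_mono hW'0)).op t from rfl, Scheme.basicOpen_res] at h2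
    exact h2.2

variable [IsReduced Y] [Surjective π] (hE : ∀ n, 0 < E n)
  (hdense : ∀ U : Y.Opens, (∃ y, y ∈ U) → ∃ V ≤ U, (∃ y, y ∈ V) ∧ GoodFree π V)
  (hpt : ∀ y : Y, (∃ U : Y.Opens, y ∈ U ∧ GoodFree π U) ∨ NormalAt Y y)

include hE hdense hpt in
theorem exists_ext_at {W₀ : Y.Opens} (t : Γ(X, π ⁻¹ᵁ W₀)) {y : Y} (hy : y ∈ W₀) :
    ∃ (W : Y.Opens) (h : W ≤ W₀) (b : Γ(Y, W)), y ∈ W ∧
      IsExt π E (AModX.resR (π.preimage_mono h) t) b ∧
      (y ∈ Y.basicOpen b → ∃ x : X, π x = y ∧ x ∈ X.basicOpen t) ∧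
      (IsIntegral X → ∀ x : X, π x = y → y ∈ Y.basicOpen b → x ∈ X.basicOpen t) := by
  rcases hpt y with ⟨U, hyU, hg⟩ | hn
  · obtain ⟨W, h, b, h1, h2, h3⟩ := exists_ext_free π hE hg t hy hyU
    refine ⟨W, h, b, h1, h2, fun hyb => ?_, fun _ x hx => h3 x hx⟩
    obtain ⟨x, hx⟩ := π.surjective y
    exact ⟨x, hx, h3 x hx hyb⟩
  · exact exists_ext_normal π hE hdense hn t hy

include hE hdense hpt in
theorem exists_ext (W : Y.Opens) (t : Γ(X, π ⁻¹ᵁ W)) : ∃ b : Γ(Y, W), IsExt π E t b := by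
  choose V hVW b hyV hb _ using fun y : W => exists_ext_at π hE hdense hpt t y.2
  obtain ⟨B, hB, -⟩ := TopCat.Sheaf.existsUnique_gluing' Y.sheaf V W (fun y => homOfLE (hVW y))
    (fun y hy => Opens.mem_iSup.2 ⟨⟨y, hy⟩, hyV _⟩) b (fun i j => by
      refine IsExt.unique π (E := E) hdense (W := V i ⊓ V j)
        (t := AModX.resR (π.preimage_mono (inf_le_left.trans (hVW i))) t) ?_ ?_
      · have := (hb i).res π (inf_le_left : V i ⊓ V j ≤ V i)
        rwa [AModX.resR_resR] at this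
      · have := (hb j).res π (inf_le_right : V i ⊓ V j ≤ V j)
        rwa [AModX.resR_resR] at this)
  refine ⟨B, fun U hU hg => ?_⟩
  refine Y.sheaf.eq_of_locally_eq' (fun y : W => U ⊓ V y) U (fun y => homOfLE inf_le_left)
    (fun y hy => Opens.mem_iSup.2 ⟨⟨y, hU hy⟩, hy, hyV _⟩) _ _ fun y => ?_
  show AModX.resR (inf_le_left : U ⊓ V y ≤ U) _ = AModX.resR inf_le_left _
  obtain ⟨r, U', s, hU', hs⟩ := hg
  rw [AModX.resR_resR, locF_res π ⟨r, U', s, hU', hs⟩, AModX.resR_resR,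
    ← AModX.resR_resR (hVW y) (inf_le_right : U ⊓ V y ≤ V y) B,
    show AModX.resR (hVW y) B = b y from hB y,
    hb y (U ⊓ V y) inf_le_right ⟨r, U', s, inf_le_left.trans hU', hs⟩, AModX.resR_resR]

include hE hdense hpt in
theorem exists_ext_mem (W : Y.Opens) (t : Γ(X, π ⁻¹ᵁ W)) :
    ∃ b : Γ(Y, W), IsExt π E t b ∧ ∀ y ∈ Y.basicOpen b,
      (∃ x : X, π x = y ∧ x ∈ X.basicOpen t) ∧ (IsIntegral X → ∀ x : X, π x = y → x ∈ X.basicOpen t) := by
  obtain ⟨b, hb⟩ := exists_ext π hE hdense hpt W t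
  refine ⟨b, hb, fun y hy => ?_⟩
  obtain ⟨V, hV, b', hyV, hb', h1, h2⟩ := exists_ext_at π hE hdense hpt t (Y.basicOpen_le _ hy)
  have e : AModX.resR hV b = b' := IsExt.unique π hdense (hb.res π hV) hb'
  have hy' : y ∈ Y.basicOpen b' := by
    rw [← e, show AModX.resR hV b = Y.presheaf.map (homOfLE hV).op b from rfl, Scheme.basicOpen_res]
    exact ⟨hyV, hy⟩
  exact ⟨h1 hy', fun hX x hx => h2 hX x hx hy'⟩

/-- The norm. -/
noncomputable def genNorm : WNorm π where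
  norm W :=
    { toFun := fun t => (exists_ext_mem π hE hdense hpt W t).choose
      map_one' := by
        refine IsExt.unique π hdense (exists_ext_mem π hE hdense hpt W 1).choose_spec.1 fun V hV _ => ?_
        rw [map_one, map_one, map_one]
      map_mul' := fun a b => by
        refine IsExt.unique π hdense (exists_ext_mem π hE hdense hpt W (a * b)).choose_spec.1 fun V hV hg => ?_
        rw [map_mul, (exists_ext_mem π hE hdense hpt W a).choose_spec.1 V hV hg,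
          (exists_ext_mem π hE hdense hpt W b).choose_spec.1 V hV hg, map_mul, map_mul] }
  norm_res {U V} h t :=
    IsExt.unique π hdense ((exists_ext_mem π hE hdense hpt U t).choose_spec.1.res π h)
      (exists_ext_mem π hE hdense hpt V _).choose_spec.1
  norm_mem U t y _ h hy :=
    let ⟨x, hx, hxt⟩ := ((exists_ext_mem π hE hdense hpt U t).choose_spec.2 y hy).1
    h x hx hxt

theorem genNorm_strong [IsIntegral X] (U : Y.Opens) (t : Γ(X, π ⁻¹ᵁ U)) (x : X)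
    (hy : π x ∈ Y.basicOpen ((genNorm π hE hdense hpt).norm U t)) : x ∈ X.basicOpen t :=
  ((exists_ext_mem π hE hdense hpt U t).choose_spec.2 _ hy).2 inferInstance x rfl

theorem genNorm_app (D : ℕ) (U : Y.Opens)
    (hD : ∀ W : Y.Opens, GoodFree π W → W ≤ U → (∃ y, y ∈ W) → rk π W * E (rk π W) = D) (g : Γ(Y, U)) :
    (genNorm π hE hdense hpt).norm U (π.app U g) = g ^ D := by
  refine IsExt.unique π hdense (exists_ext_mem π hE hdense hpt U (π.app U g)).choose_spec.1 fun V hV hg => ?_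
  rw [app_resR, map_pow]
  letI := CoverPush.alg π V
  show AModX.resR hV g ^ D = Algebra.norm Γ(Y, V) (algebraMap Γ(Y, V) Γ(X, π ⁻¹ᵁ V) (AModX.resR hV g)) ^ E (rk π V)
  rcases subsingleton_or V with hsub | ⟨y, hy⟩
  · exact Subsingleton.elim _ _
  obtain ⟨r, U', s, hVU, hs⟩ := hg
  haveI := nontrivial_of_mem (W := V) hy
  rw [Algebra.norm_algebraMap_of_basis (basisAt π hs hVU), ← pow_mul, Fintype.card_fin,
    ← hD V ⟨r, U', s, hVU, hs⟩ hV ⟨y, hy⟩, rk_eq π hs hVU]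

end Groth.Agent.NormX
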