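import Groth.Agent.NormX.Basic

/-!
# Norms given on small opens
-/

universe u

open CategoryTheory AlgebraicGeometry TopologicalSpace

set_option backward.isDefEq.respectTransparency false
set_option backward.isDefEq.respectTransparency.types false

namespace Groth.Agent.NormX

open Groth.Agent

variable {X Y : Scheme.{u}}

/-- Norms on the opens of a basis closed under passing to smaller opens. -/
structure LocNorm (π : X ⟶ Y) where
  /-- The opens where the norm is given. -/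
  good : Y.Opens → Prop
  good_mono : ∀ {U V : Y.Opens}, V ≤ U → good U → good V
  good_cov : ∀ y : Y, ∃ U : Y.Opens, y ∈ U ∧ good U
  /-- The norm on those opens. -/
  loc : ∀ U : Y.Opens, good U → (Γ(X, π ⁻¹ᵁ U) →* Γ(Y, U))
  loc_res : ∀ {U V : Y.Opens} (h : V ≤ U) (hU : good U) (s : Γ(X, π ⁻¹ᵁ U)),
    AModX.resR h (loc U hU s) = loc V (good_mono h hU) (AModX.resR (π.preimage_mono h) s)
  loc_mem : ∀ (U : Y.Opens) (hU : good U) (s : Γ(X, π ⁻¹ᵁ U)) (y : Y), y ∈ U →
    (∀ x : X, π x = y → x ∉ X.basicOpen s) → y ∉ Y.basicOpen (loc U hU s)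

namespace LocNorm

variable {π : X ⟶ Y} (N : LocNorm π)

theorem eq_of_good {U : Y.Opens} (a b : Γ(Y, U))
    (h : ∀ (W : Y.Opens) (hW : W ≤ U), N.good W → AModX.resR hW a = AModX.resR hW b) : a = b := by
  refine Y.sheaf.eq_of_locally_eq' (fun p : U => U ⊓ (N.good_cov p.1).choose) U
    (fun p => homOfLE inf_le_left)
    (fun y hy => Opens.mem_iSup.2 ⟨⟨y, hy⟩, hy, (N.good_cov y).choose_spec.1⟩) a b fun p => ?_
  exact h _ inf_le_left (N.good_mono inf_le_right (N.good_cov p.1).choose_spec.2)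

theorem exists_val (U : Y.Opens) (s : Γ(X, π ⁻¹ᵁ U)) :
    ∃ b : Γ(Y, U), ∀ (W : Y.Opens) (hW : W ≤ U) (hg : N.good W),
      AModX.resR hW b = N.loc W hg (AModX.resR (π.preimage_mono hW) s) := by
  let V : U → Y.Opens := fun p => U ⊓ (N.good_cov p.1).choose
  have hV : ∀ p, N.good (V p) := fun p => N.good_mono inf_le_right (N.good_cov p.1).choose_spec.2
  have hVU : ∀ p, V p ≤ U := fun p => inf_le_left
  obtain ⟨b, hb, -⟩ := TopCat.Sheaf.existsUnique_gluing' Y.sheaf V U (fun p => homOfLE (hVU p))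
    (fun y hy => Opens.mem_iSup.2 ⟨⟨y, hy⟩, hy, (N.good_cov y).choose_spec.1⟩)
    (fun p => N.loc (V p) (hV p) (AModX.resR (π.preimage_mono (hVU p)) s)) (fun p q => by
      show AModX.resR (inf_le_left : V p ⊓ V q ≤ V p) _ = AModX.resR (inf_le_right : V p ⊓ V q ≤ V q) _
      rw [N.loc_res, N.loc_res, AModX.resR_resR, AModX.resR_resR])
  have hb' : ∀ p, AModX.resR (hVU p) b = N.loc (V p) (hV p) (AModX.resR (π.preimage_mono (hVU p)) s) :=
    fun p => hb p
  refine ⟨b, fun W hW hg => N.eq_of_good _ _ fun W' hW' hg' => ?_⟩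
  rw [N.loc_res hW' hg, AModX.resR_resR, AModX.resR_resR]
  refine Y.sheaf.eq_of_locally_eq' (fun p : W' => W' ⊓ V ⟨p.1, hW (hW' p.2)⟩) W' (fun p => homOfLE inf_le_left)
    (fun y hy => Opens.mem_iSup.2 ⟨⟨y, hy⟩, hy, ⟨hW (hW' hy), (N.good_cov y).choose_spec.1⟩⟩) _ _ fun p => ?_
  show AModX.resR (inf_le_left : W' ⊓ V ⟨p.1, hW (hW' p.2)⟩ ≤ W') _ = AModX.resR inf_le_left _
  rw [AModX.resR_resR, N.loc_res, AModX.resR_resR,
    ← AModX.resR_resR (hVU ⟨p.1, hW (hW' p.2)⟩) (inf_le_right : W' ⊓ V ⟨p.1, hW (hW' p.2)⟩ ≤ _) b,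
    hb', N.loc_res, AModX.resR_resR]

/-- The glued value. -/
noncomputable def val (U : Y.Opens) (s : Γ(X, π ⁻¹ᵁ U)) : Γ(Y, U) := (N.exists_val U s).choose

theorem val_spec (U : Y.Opens) (s : Γ(X, π ⁻¹ᵁ U)) {W : Y.Opens} (hW : W ≤ U) (hg : N.good W) :
    AModX.resR hW (N.val U s) = N.loc W hg (AModX.resR (π.preimage_mono hW) s) :=
  (N.exists_val U s).choose_spec W hW hg

/-- The norm on all opens. -/
noncomputable def toWNorm : WNorm π where
  norm U :=
    { toFun := N.val U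
      map_one' := N.eq_of_good _ _ fun W hW hg => by rw [N.val_spec U 1 hW hg, map_one, map_one, map_one]
      map_mul' := fun a b => N.eq_of_good _ _ fun W hW hg => by
        rw [map_mul, N.val_spec U _ hW hg, N.val_spec U _ hW hg, N.val_spec U _ hW hg, map_mul, map_mul] }
  norm_res {U V} h s := N.eq_of_good _ _ fun W hW hg => by
    show AModX.resR hW (AModX.resR h (N.val U s)) = AModX.resR hW (N.val V _)
    rw [AModX.resR_resR, N.val_spec U s _ hg, N.val_spec V _ hW hg, AModX.resR_resR]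
  norm_mem U s y hy h hy' := by
    obtain ⟨W₀, hyW₀, hg₀⟩ := N.good_cov y
    let W := U ⊓ W₀
    have hg : N.good W := N.good_mono inf_le_right hg₀
    refine N.loc_mem W hg (AModX.resR (π.preimage_mono inf_le_left) s) y ⟨hy, hyW₀⟩ (fun x hx hxs => h x hx ?_) ?_
    · rw [show AModX.resR (π.preimage_mono (inf_le_left : W ≤ U)) s =
        X.presheaf.map (homOfLE (π.preimage_mono (inf_le_left : W ≤ U))).op s from rfl, Scheme.basicOpen_res] at hxs
      exact hxs.2
    · rw [← N.val_spec U s (inf_le_left : W ≤ U) hg,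
        show AModX.resR (inf_le_left : W ≤ U) (N.val U s) = Y.presheaf.map (homOfLE inf_le_left).op (N.val U s) from rfl,
        Scheme.basicOpen_res]
      exact ⟨⟨hy, hyW₀⟩, hy'⟩

theorem toWNorm_spec (U : Y.Opens) (s : Γ(X, π ⁻¹ᵁ U)) {W : Y.Opens} (hW : W ≤ U) (hg : N.good W) :
    AModX.resR hW (N.toWNorm.norm U s) = N.loc W hg (AModX.resR (π.preimage_mono hW) s) :=
  N.val_spec U s hW hg

end LocNorm

end Groth.Agent.NormX
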